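import Cfsg.Agent.Lib.BrauerSuzuki.ZStar
import Cfsg.Agent.Lib.BrauerSuzuki.Basic
import Cfsg.Agent.Lib.CentralInter.Reduce
import Cfsg.Agent.Lib.LocalEven.SylowAux
import Cfsg.Prelude.Def_TwoFusion
import Cfsg.Prelude.Def_CaseTheorems

/-!
A strongly closed cyclic 2-subgroup is normal modulo the odd core; strongly closed subgroups in
quotients.
-/

set_option autoImplicit false
set_option linter.style.haveILetI false
set_option linter.unusedSectionVars false

namespace Cfsg.Agent.ClosedLocal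

open Subgroup

universe u

variable {G : Type u} [Group G] [Finite G]

/-- A 2-subgroup is conjugate into a given Sylow subgroup. -/
theorem exists_conj_mem {P : Sylow 2 G} {Y : Subgroup G} (hY : IsPGroup 2 Y) :
    ∃ k : G, ∀ y ∈ Y, k * y * k⁻¹ ∈ (P : Subgroup G) := by
  obtain ⟨k, -, hk⟩ := LESylow.exists_conj_le_of_le (M := ⊤) le_top hY (P.subtype le_top)
  refine ⟨k, fun y hy => ?_⟩
  have h := hk ⟨y, hy, rfl⟩
  rw [Sylow.coe_subtype, map_subgroupOf_eq_of_le le_top] at h
  exact h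

/-- Images of strongly closed subgroups: the kernel lies in the product of the Sylow subgroup and an odd
normal subgroup of the kernel. -/
theorem closed_map {H : Type*} [Group H] [Finite H] {P : Sylow 2 G} {S : Subgroup G}
    (hS : Cfsg.IsStronglyClosed S (P : Subgroup G)) (π : G →* H) (hπ : Function.Surjective π)
    (O : Subgroup G) [O.Normal] (hO : O ≤ π.ker) (hker : π.ker ≤ (P : Subgroup G) ⊔ O) :
    Cfsg.IsStronglyClosed (S.map π) ((P.mapSurjective hπ : Sylow 2 H) : Subgroup H) := by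
  haveI : Fact (Nat.Prime 2) := ⟨Nat.prime_two⟩
  refine ⟨map_mono hS.1, ?_⟩
  rintro _ ⟨s, hs, rfl⟩ h hh
  obtain ⟨g, rfl⟩ := hπ h
  obtain ⟨p, hp, hpe⟩ := hh
  have hmem : g * s * g⁻¹ ∈ (P : Subgroup G) ⊔ O := by
    have hk : p⁻¹ * (g * s * g⁻¹) ∈ π.ker := by
      rw [MonoidHom.mem_ker, map_mul, map_inv, hpe, map_mul, map_mul, map_inv, inv_mul_cancel]
    have := mul_mem (mem_sup_left (T := O) hp) (hker hk)
    rwa [mul_inv_cancel_left] at this
  obtain ⟨m, hm, hle⟩ := LESylow.exists_conj_le_of_le (zpowers_le.2 hmem)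
    (show IsPGroup 2 (zpowers (g * s * g⁻¹)) by
      have := (P.isPGroup'.to_le (zpowers_le.2 (hS.1 hs))).map (MulAut.conj g).toMonoidHom
      rwa [MonoidHom.map_zpowers] at this) (P.subtype (N := (P : Subgroup G) ⊔ O) le_sup_left)
  rw [Sylow.coe_subtype, map_subgroupOf_eq_of_le (show (P : Subgroup G) ≤ (P : Subgroup G) ⊔ O from le_sup_left)]
    at hle
  obtain ⟨p', hp', o, ho, rfl⟩ := mem_sup_of_normal_right.1 hm
  have hpy : p' * o * (g * s * g⁻¹) * (p' * o)⁻¹ ∈ (P : Subgroup G) := hle ⟨_, mem_zpowers _, rfl⟩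
  have hoy : o * g * s * (o * g)⁻¹ ∈ (P : Subgroup G) := by
    have := mul_mem (mul_mem (inv_mem hp') hpy) hp'
    convert this using 1
    group
  refine ⟨_, hS.2 s hs (o * g) hoy, ?_⟩
  have ho1 : π o = 1 := MonoidHom.mem_ker.1 (hO ho)
  simp only [map_mul, map_inv, ho1, one_mul]

/-- An involution in the only cyclic strongly closed subgroup is isolated. -/
theorem isolated_of_unique {P : Sylow 2 G} {S : Subgroup G} (hS : Cfsg.IsStronglyClosed S (P : Subgroup G))
    {z : G} (hz : orderOf z = 2) (hzS : z ∈ S) (huniq : ∀ w ∈ S, orderOf w = 2 → w = z) :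
    Cfsg.IsIsolated z := by
  haveI : Fact (Nat.Prime 2) := ⟨Nat.prime_two⟩
  intro g hc
  set w := g * z * g⁻¹ with hw
  have hwo : orderOf w = 2 := (Invol.order_conj g z).trans hz
  have hp : IsPGroup 2 ↥(zpowers z ⊔ zpowers w) := by
    refine IsPGroup.to_sup_of_normal_left' (IsPGroup.of_card (n := 1) (by rw [Nat.card_zpowers, hz, pow_one]))
      (IsPGroup.of_card (n := 1) (by rw [Nat.card_zpowers, hwo, pow_one])) ?_
    refine zpowers_le.2 (centralizer_le_normalizer _ (mem_centralizer_iff.2 fun a ha => ?_))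
    obtain ⟨i, rfl⟩ := mem_zpowers_iff.1 ha
    exact (hc.zpow_left i).eq
  obtain ⟨k, hk⟩ := exists_conj_mem (P := P) hp
  have h1 := huniq _ (hS.2 z hzS k (hk z (mem_sup_left (mem_zpowers z)))) ((Invol.order_conj k z).trans hz)
  have h2' : k * g * z * (k * g)⁻¹ ∈ (P : Subgroup G) := by
    rw [show k * g * z * (k * g)⁻¹ = k * w * k⁻¹ by rw [hw]; group]
    exact hk w (mem_sup_right (mem_zpowers w))
  have h2 := huniq _ (hS.2 z hzS (k * g) h2') ((Invol.order_conj _ z).trans hz)
  rw [show k * g * z * (k * g)⁻¹ = k * w * k⁻¹ by rw [hw]; group] at h2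
  exact mul_left_cancel (mul_right_cancel (h2.trans h1.symm))

/-- A cyclic 2-group has at most one involution. -/
theorem cyclic_unique {S : Subgroup G} [IsCyclic S] {z w : G} (hz : z ∈ S) (hw : w ∈ S)
    (hzo : orderOf z = 2) (hwo : orderOf w = 2) : w = z := by
  classical
  haveI := Fintype.ofFinite S
  by_contra hne
  have h := IsCyclic.card_pow_eq_one_le (α := S) (n := 2) (by norm_num)
  have hsub : ({1, ⟨z, hz⟩, ⟨w, hw⟩} : Finset S) ⊆ Finset.univ.filter fun a : S => a ^ 2 = 1 := by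
    intro a ha
    simp only [Finset.mem_insert, Finset.mem_singleton] at ha
    rw [Finset.mem_filter]
    refine ⟨Finset.mem_univ _, ?_⟩
    rcases ha with rfl | rfl | rfl
    · exact one_pow 2
    · exact Subtype.ext (by rw [SubmonoidClass.coe_pow, ← hzo, pow_orderOf_eq_one]; rfl)
    · exact Subtype.ext (by rw [SubmonoidClass.coe_pow, ← hwo, pow_orderOf_eq_one]; rfl)
  have hz1 : (1 : S) ≠ ⟨z, hz⟩ := fun e => Invol.ne_one hzo (congrArg Subtype.val e).symm
  have hw1 : (1 : S) ≠ ⟨w, hw⟩ := fun e => Invol.ne_one hwo (congrArg Subtype.val e).symm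
  have hzw : (⟨z, hz⟩ : S) ≠ ⟨w, hw⟩ := fun e => hne (congrArg Subtype.val e).symm
  have h3 : ({1, ⟨z, hz⟩, ⟨w, hw⟩} : Finset S).card = 3 := by
    rw [Finset.card_insert_of_notMem (by simp [hz1, hw1]), Finset.card_insert_of_notMem (by simp [hzw]),
      Finset.card_singleton]
  have := Finset.card_le_card hsub
  omega

/-- A strongly closed cyclic subgroup is normal modulo the odd core. -/
theorem cyclic_normal : ∀ (G : Type u) [Group G] [Finite G] (P : Sylow 2 G) (S : Subgroup G),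
    Cfsg.IsStronglyClosed S (P : Subgroup G) → IsCyclic S →
    ∀ g : G, ∀ s ∈ S, g * s * g⁻¹ ∈ S ⊔ Cfsg.oddCore G := by
  intro G _ _
  induction hn : Nat.card G using Nat.strong_induction_on generalizing G with
  | _ n ih =>
  subst hn
  intro P S hS hcyc g s hs
  haveI : Fact (Nat.Prime 2) := ⟨Nat.prime_two⟩
  haveI := FittingCores.pPrimeCore_normal (G := G) 2
  by_cases hS1 : S = ⊥
  · subst hS1
    rw [mem_bot.1 hs, mul_one, mul_inv_cancel]
    exact one_mem _
  have hSp : IsPGroup 2 S := P.isPGroup'.to_le hS.1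
  haveI : Nontrivial S := (nontrivial_iff_ne_bot _).2 hS1
  obtain ⟨z₀, hz₀⟩ : ∃ z : S, orderOf z = 2 := by
    obtain ⟨k, hk⟩ := hSp.exists_card_eq
    refine exists_prime_orderOf_dvd_card' 2 ?_
    rw [hk]
    refine dvd_pow_self 2 ?_
    rintro rfl
    exact absurd hk (Finite.one_lt_card (α := S)).ne'
  have hz : orderOf (z₀ : G) = 2 := by rw [Subgroup.orderOf_coe, hz₀]
  have hiso := isolated_of_unique hS hz z₀.2 fun w hw hwo => cyclic_unique z₀.2 hw hz hwo
  have hZ := BrauerSuzuki.zStar G _ hz hiso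
  set O := Cfsg.oddCore G with hOdef
  have hlt : ∀ N : Subgroup G, ∀ [N.Normal], N ≠ ⊥ → Nat.card (G ⧸ N) < Nat.card G := by
    intro N _ hN
    rw [Subgroup.card_eq_card_quotient_mul_card_subgroup N]
    exact lt_mul_of_one_lt_right Nat.card_pos
      (Finite.one_lt_card_iff_nontrivial.2 ((nontrivial_iff_ne_bot _).2 hN))
  -- the argument through a quotient with trivial core
  have main : ∀ N : Subgroup G, ∀ [N.Normal], N ≠ ⊥ → ∀ O' : Subgroup G, ∀ [O'.Normal], O' ≤ N →
      N ≤ (P : Subgroup G) ⊔ O' → Cfsg.oddCore (G ⧸ N) = ⊥ → N ≤ S ⊔ O → g * s * g⁻¹ ∈ S ⊔ O := by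
    intro N _ hN O' _ hO' hNP hcore hNS
    have hsurj := QuotientGroup.mk'_surjective N
    haveI : IsCyclic (S.map (QuotientGroup.mk' N)) :=
      isCyclic_of_surjective _ ((QuotientGroup.mk' N).subgroupMap_surjective S)
    have h := ih _ (hlt N hN) (G ⧸ N) rfl (P.mapSurjective hsurj) (S.map (QuotientGroup.mk' N))
      (closed_map hS _ hsurj O' (by rwa [QuotientGroup.ker_mk']) (by rwa [QuotientGroup.ker_mk']))
      inferInstance (QuotientGroup.mk' N g) (QuotientGroup.mk' N s) ⟨s, hs, rfl⟩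
    rw [hcore, sup_bot_eq, ← map_inv, ← map_mul, ← map_mul] at h
    obtain ⟨t, ht, e⟩ := h
    have hk : t⁻¹ * (g * s * g⁻¹) ∈ N := by
      rw [← QuotientGroup.ker_mk' N, MonoidHom.mem_ker, map_mul, map_inv, e, inv_mul_cancel]
    have := mul_mem (mem_sup_left (T := O) ht) (hNS hk)
    rwa [mul_inv_cancel_left] at this
  by_cases hO : O = ⊥
  swap
  · exact main O hO O le_rfl le_sup_right (CentralInter.oddCore_quotient G) le_sup_right
  have hzc : ∀ a : G, a * z₀ = z₀ * a := fun a => by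
    have h := hZ a
    rw [show Cfsg.pPrimeCore 2 G = ⊥ from hO, mem_bot] at h
    exact mul_inv_eq_iff_eq_mul.1 (mul_inv_eq_one.1 h)
  haveI : (zpowers (z₀ : G)).Normal := ⟨fun a ha b => by
    obtain ⟨i, rfl⟩ := mem_zpowers_iff.1 ha
    have hci : Commute b ((z₀ : G) ^ i) := (show Commute b (z₀ : G) from hzc b).zpow_right i
    rw [hci.eq, mul_inv_cancel_right]
    exact ha⟩
  have hzp : IsPGroup 2 (zpowers (z₀ : G)) := IsPGroup.of_card (n := 1) (by rw [Nat.card_zpowers, hz, pow_one])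
  refine main (zpowers (z₀ : G)) (fun h => Invol.ne_one hz ((zpowers_eq_bot).1 h)) ⊥ bot_le
    (by rw [sup_bot_eq]; exact zpowers_le.2 (hS.1 z₀.2))
    (CentralInter.oddCore_quotient_central hO _ hzp fun a ha => ?_) (le_sup_of_le_left (zpowers_le.2 z₀.2))
  obtain ⟨i, rfl⟩ := mem_zpowers_iff.1 ha
  exact zpow_mem (mem_center_iff.2 hzc) i

end Cfsg.Agent.ClosedLocal
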