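import Cfsg.Agent.Lib.GoldStruct.Kind

/-!
In the groups of the Bender list a subgroup of a Sylow 2-subgroup containing the involutions and invariant
under the normaliser is either elementary or the whole Sylow subgroup.
-/

set_option autoImplicit false
set_option linter.unusedSectionVars false
set_option linter.style.haveILetI false

namespace Cfsg.Agent.ClosedLocal

open Subgroup GoldStruct
open Hermitian (fixed mem_fixed)

universe u w

/-- No subgroup invariant under the normaliser lies strictly between the involutions and `T`. -/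
def Irr {L : Type u} [Group L] (T : Subgroup L) : Prop :=
  ∀ W : Subgroup L, W ≤ T → (∀ x ∈ T, x * x = 1 → x ∈ W) →
    (∀ d ∈ normalizer (T : Set L), ∀ x ∈ W, d * x * d⁻¹ ∈ W) → (∀ x ∈ W, x * x = 1) ∨ T ≤ W

variable {L : Type u} [Group L]

theorem irr_of_elementary {T : Subgroup L} (h : ∀ x ∈ T, x * x = 1) : Irr T :=
  fun _ hW _ _ => Or.inl fun x hx => h x (hW hx)

theorem Irr.map {L' : Type w} [Group L'] {T : Subgroup L} (h : Irr T) (e : L ≃* L') :
    Irr (T.map e.toMonoidHom) := by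
  intro W hW hinv hn
  have hW' : W.comap e.toMonoidHom ≤ T := fun x hx => by
    obtain ⟨y, hy, hye⟩ := hW hx
    rwa [← e.injective (show e y = e x from hye)]
  have h1 := h (W.comap e.toMonoidHom) hW' (fun x hx hx2 => hinv _ ⟨x, hx, rfl⟩ (by
      show e x * e x = 1
      rw [← map_mul, hx2, map_one]))
    fun d hd x hx => by
      show e (d * x * d⁻¹) ∈ W
      rw [map_mul, map_mul, map_inv]
      exact hn _ (le_normalizer_map e.toMonoidHom ⟨d, hd, rfl⟩) _ hx
  rcases h1 with h1 | h1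
  · refine Or.inl fun y hy => ?_
    obtain ⟨x, hx, rfl⟩ := hW hy
    show e x * e x = 1
    rw [← map_mul, h1 x hy, map_one]
  · exact Or.inr (by rintro _ ⟨x, hx, rfl⟩; exact h1 hx)

variable {F : Type w} [Field F]

/-- From coordinates: the realised scalars must generate everything from a nonzero vector. -/
theorem irr_of_coord {T : Subgroup L} {ψ : L → F} (c : Coord T ψ)
    (hgen : ∀ A : AddSubgroup F, (∀ μ, Scal T ψ μ → ∀ a ∈ A, μ * a ∈ A) → ∀ a ∈ A, a ≠ 0 → ∀ v, v ∈ A) :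
    Irr T := by
  intro W hW hinv hn
  by_cases hel : ∀ x ∈ W, x * x = 1
  · exact Or.inl hel
  push Not at hel
  obtain ⟨x₀, hx₀, hne⟩ := hel
  let A : AddSubgroup F :=
    { carrier := {v | ∃ x ∈ W, ψ x = v}
      zero_mem' := ⟨1, one_mem W, c.map_one⟩
      add_mem' := by
        rintro _ _ ⟨x, hx, rfl⟩ ⟨y, hy, rfl⟩
        exact ⟨x * y, mul_mem hx hy, c.add x (hW hx) y (hW hy)⟩
      neg_mem' := by
        rintro _ ⟨x, hx, rfl⟩
        exact ⟨x⁻¹, inv_mem hx, c.map_inv (hW hx)⟩ }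
  have hA := hgen A (fun μ hμ a ha => by
    obtain ⟨d, hd, hd'⟩ := hμ
    obtain ⟨x, hx, rfl⟩ := ha
    exact ⟨d * x * d⁻¹, hn d hd x hx, hd' x (hW hx)⟩) (ψ x₀) ⟨x₀, hx₀, rfl⟩
    fun e => hne ((c.zero x₀ (hW hx₀)).1 e)
  refine Or.inr fun y hy => ?_
  obtain ⟨x, hx, he⟩ := hA (ψ y)
  have h2 := hinv _ (mul_mem (inv_mem (hW hx)) hy) (c.diff (hW hx) hy he)
  simpa using mul_mem hx h2

theorem irr_of_one [Finite L] (P : Sylow 2 L) (h : Irr (P : Subgroup L)) (T : Sylow 2 L) :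
    Irr (T : Subgroup L) := by
  haveI : Fact (Nat.Prime 2) := ⟨Nat.prime_two⟩
  obtain ⟨g, rfl⟩ := MulAction.exists_smul_eq L P T
  exact h.map (MulAut.conj g)

theorem irr_congr [Finite L] {L' : Type w} [Group L'] [Finite L'] (e : L ≃* L') (P : Sylow 2 L')
    (h : Irr (P : Subgroup L')) (T : Sylow 2 L) : Irr (T : Subgroup L) := by
  haveI : Fact (Nat.Prime 2) := ⟨Nat.prime_two⟩
  exact irr_of_one (P.mapSurjective (f := e.symm.toMonoidHom) e.symm.surjective) (h.map e.symm) T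

section Models

variable [Fintype F]

open Suzuki in
theorem sz_irr {m : ℕ} (h : SzField F m) : Irr (rootGroup h) := by
  classical
  refine irr_of_coord (ψ := szCoord h) ?_ fun A hA a ha hne v => ?_
  · refine ⟨?_, ?_, fun v => ⟨T h v 0, ⟨v, 0, rfl⟩, szCoord_T h v 0⟩, ?_, ?_, ?_⟩
    · rintro _ ⟨a, b, rfl⟩ _ ⟨c, d, rfl⟩
      rw [T_mul, szCoord_T, szCoord_T, szCoord_T]
    · rintro _ ⟨a, b, rfl⟩
      rw [szCoord_T, T_sq, eq_one_iff_T h, mul_eq_zero, h.θ_eq_zero]
      simp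
    · rintro _ ⟨a, b, rfl⟩ he _ ⟨c, d, rfl⟩
      rw [T_sq, eq_one_iff_T h, mul_eq_zero, h.θ_eq_zero, or_self] at he
      rw [he.2, T_zero_central]
    · rintro _ ⟨a, b, rfl⟩
      rw [T_sq, T_sq]
      simp [T_zero]
    · rintro _ ⟨a, b, rfl⟩ he
      rw [T_sq, eq_one_iff_T h, mul_eq_zero, h.θ_eq_zero, or_self] at he
      obtain rfl := he.2
      by_cases hb : b = 0
      · exact ⟨1, one_mem _, by rw [hb, T_zero, one_mul]⟩
      obtain ⟨k, -, hk⟩ := h.θ_mul_self_surjective b hb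
      exact ⟨T h k 0, ⟨k, 0, rfl⟩, by rw [T_sq, hk]⟩
  · by_cases hv : v = 0
    · exact hv ▸ A.zero_mem
    have h1 := hA (v * a⁻¹) ?_ a ha
    · rwa [inv_mul_cancel_right₀ hne] at h1
    · refine ⟨H h (Units.mk0 (v * a⁻¹) (mul_ne_zero hv (inv_ne_zero hne))),
        borel_le_normalizer h (H_mem_borel h _), ?_⟩
      rintro _ ⟨b, b', rfl⟩
      rw [H_conj_T, szCoord_T, szCoord_T, Units.val_mk0]

open PSU3Index in
theorem psu_irr {q : ℕ} (C : Ctx F q) [CharP F 2] {n : ℕ} (hn : 2 ≤ n) (hqn : q = 2 ^ n) :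
    Irr (radP C) := by
  classical
  have hq4 : 4 ≤ q := hqn ▸ le_trans (by norm_num) (Nat.pow_le_pow_right two_pos hn)
  refine irr_of_coord (coord_radP C) fun A hA a ha hne v => ?_
  -- the fixed field acts
  have hfix : ∀ x : F, C.σ x = x → ∀ b ∈ A, x * b ∈ A := by
    intro x hx b hb
    by_cases hx0 : x = 0
    · rw [hx0, zero_mul]; exact A.zero_mem
    have e : mu C x = x := by rw [mu, hx, mul_div_assoc, div_self hx0, mul_one]
    exact hA x (e ▸ scal_mu C hx0) b hb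
  -- a scalar outside the fixed field
  obtain ⟨μ, hμA, hμ⟩ : ∃ μ : F, (∀ b ∈ A, μ * b ∈ A) ∧ C.σ μ ≠ μ := by
    obtain ⟨l, hl, hl3⟩ : ∃ l : F, l * C.σ l = 1 ∧ l ^ 3 ≠ 1 := by
      by_contra hall
      simp only [not_exists, not_and, not_not] at hall
      have hcard := card_norm_one C
      have hle : Nat.card {a : F // a * C.σ a = 1} ≤ 3 := by
        rw [Nat.card_eq_fintype_card, Fintype.card_subtype]
        refine le_trans (b := (Polynomial.X ^ 3 - Polynomial.C (1 : F)).roots.toFinset.card) ?_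
          ((Multiset.toFinset_card_le _).trans ((Polynomial.card_roots' _).trans (le_of_eq Polynomial.natDegree_X_pow_sub_C)))
        refine Finset.card_le_card fun x hx => ?_
        rw [Multiset.mem_toFinset, Polynomial.mem_roots (Polynomial.X_pow_sub_C_ne_zero (by norm_num) _)]
        simp [hall x (Finset.mem_filter.1 hx).2]
      omega
    have hl0 : l ≠ 0 := left_ne_zero_of_mul_eq_one hl
    refine ⟨mu C l, fun b hb => hA _ (scal_mu C hl0) b hb, fun e => hl3 ?_⟩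
    have hs : C.σ l = l⁻¹ := eq_inv_of_mul_eq_one_right hl
    have hm : mu C l = (l ^ 3)⁻¹ := by
      rw [mu, hs, div_eq_mul_inv]; ring
    have hm' : C.σ (mu C l) = l ^ 3 := by
      rw [hm, map_inv₀, map_pow, hs, inv_pow, inv_inv]
    rw [hm', hm] at e
    have h6 : l ^ 3 * l ^ 3 = 1 := by
      nth_rewrite 1 [e]
      exact inv_mul_cancel₀ (pow_ne_zero _ hl0)
    have h2 : (l ^ 3 - 1) * (l ^ 3 - 1) = 0 := by
      have hh : (2 : F) = 0 := CharTwo.two_eq_zero
      linear_combination h6 + (1 - l ^ 3) * hh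
    exact sub_eq_zero.1 (mul_self_eq_zero.1 h2)
  letI : Fintype (fixed C.σ) := Fintype.ofFinite _
  have hinj : Function.Injective fun p : fixed C.σ × fixed C.σ => (p.1 : F) + (p.2 : F) * μ := by
    rintro ⟨a₁, b₁⟩ ⟨a₂, b₂⟩ e
    have e' : ((a₁ : F) - a₂) = ((b₂ : F) - b₁) * μ := by
      have e0 : (a₁ : F) + (b₁ : F) * μ = (a₂ : F) + (b₂ : F) * μ := e
      linear_combination e0
    by_cases hb : (b₂ : F) - b₁ = 0
    · rw [hb, zero_mul, sub_eq_zero] at e'
      exact Prod.ext (Subtype.ext e') (Subtype.ext (sub_eq_zero.1 hb).symm)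
    · refine absurd ?_ hμ
      have hμe : μ = ((a₁ : F) - a₂) / ((b₂ : F) - b₁) := by
        rw [e', mul_comm, mul_div_assoc, div_self hb, mul_one]
      rw [hμe, map_div₀, map_sub, map_sub, mem_fixed.1 a₁.2, mem_fixed.1 a₂.2, mem_fixed.1 b₁.2,
        mem_fixed.1 b₂.2]
  have hbij := (Fintype.bijective_iff_injective_and_card _).2 ⟨hinj, by
    rw [Fintype.card_prod, ← Nat.card_eq_fintype_card, ← Nat.card_eq_fintype_card, C.hq, card_F C, pow_two]⟩
  obtain ⟨⟨r, s⟩, hrs⟩ := hbij.2 (v * a⁻¹)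
  have hmem : ((r : F) + (s : F) * μ) * a ∈ A := by
    rw [add_mul, mul_assoc]
    exact A.add_mem (hfix _ (mem_fixed.1 r.2) _ ha) (hfix _ (mem_fixed.1 s.2) _ (hμA _ ha))
  rwa [show (r : F) + (s : F) * μ = v * a⁻¹ from hrs, inv_mul_cancel_right₀ hne] at hmem

end Models

/-- Every group of the Bender list. -/
theorem irr_bender [Finite L] (h : SEBender.IsBender L) (T : Sylow 2 L) : Irr (T : Subgroup L) := by
  haveI : Fact (Nat.Prime 2) := ⟨Nat.prime_two⟩
  rcases h with ⟨F, _, _, ⟨n, -, hF⟩, ⟨e⟩⟩ | ⟨F, _, _, m, hm, hF, ⟨e⟩⟩ | ⟨F, _, _, n, hn, hF, ⟨e⟩⟩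
  · haveI : CharP F 2 := charP_of_card_eq_prime_pow hF
    refine irr_of_elementary fun x hx => e.injective ?_
    obtain ⟨k, hk⟩ := T.2 ⟨x, hx⟩
    have hk' : x ^ 2 ^ k = 1 := congrArg Subtype.val hk
    rw [map_mul, map_one]
    exact UType.psl_two_sq (e x) (k := k) (by rw [← map_pow, hk', map_one])
  · have hd : Suzuki.SzField F m := ⟨hm, hF⟩
    exact irr_congr (e.trans (Suzuki.minorEquiv hd).symm) (Suzuki.rootSylow hd) (sz_irr hd) T
  · obtain ⟨hch, σ, hinv, hne, hσ, hq⟩ := SU3Sylow.setup (F := F) (n := n) (by omega) hF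
    haveI := hinv
    obtain ⟨C⟩ := PSU3Index.exists_ctx hF
    haveI : Finite (Cfsg.PSU 3 F (2 ^ n)) := Finite.of_equiv L e.toEquiv
    have hcard : Nat.card (radP C) = (2 ^ n) ^ 3 := by
      refine Eq.trans ?_ (PSU3Index.card_rad C)
      refine Nat.card_congr (Equiv.ofBijective (fun x : PSU3Index.rad C => (⟨prj (x : ↥(Cfsg.SU 3 F (2 ^ n))), x, x.2, rfl⟩ : radP C)) ?_).symm
      constructor
      · rintro ⟨x, hx⟩ ⟨y, hy⟩ hxy
        obtain ⟨a, b, h, rfl⟩ := PSU3Index.rad_form C hx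
        obtain ⟨c, d, h', rfl⟩ := PSU3Index.rad_form C hy
        obtain ⟨e1, e2⟩ := prj_uEl_inj C h h' (congrArg Subtype.val hxy)
        exact Subtype.ext (uEl_congr C h h' e1 e2)
      · rintro ⟨_, x, hx, rfl⟩
        exact ⟨⟨x, hx⟩, rfl⟩
    have hp : IsPGroup 2 (radP C) := IsPGroup.of_card (n := n * 3) (by rw [hcard, pow_mul])
    obtain ⟨P, hP⟩ := hp.exists_le_sylow
    obtain ⟨eP⟩ := SU3Sylow.sylow_PSU_equiv (σ := σ) hne (by omega : 1 ≤ n) hσ hq P
    have heq : radP C = (P : Subgroup _) := eq_of_le_of_card_ge hP (by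
      rw [hcard, Nat.card_congr eP.toEquiv, SU3Sylow.Heis.card_eq hne hq])
    exact irr_congr e P (heq ▸ psu_irr C hn rfl) T

end Cfsg.Agent.ClosedLocal
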