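import Cfsg.Agent.Lib.GateCons.Basic
import Cfsg.Agent.Lib.Transfer.Fusion
import Cfsg.Prelude.Def_PLocal

/-!
A proper subgroup containing the centralisers of the elements of a strongly closed 2-subgroup and the
normaliser of the subgroup of its involutions controls the fusion of that 2-subgroup.
-/

set_option autoImplicit false
set_option linter.style.haveILetI false
set_option linter.unusedSectionVars false

namespace Cfsg.Agent.ClosedLocal

open Subgroup

universe u

variable {G : Type u} [Group G] [Finite G]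

/-- The hypothesis of the local overgroup theorem. -/
structure Loc (T : Sylow 2 G) (S H : Subgroup G) : Prop where
  ne : S ≠ ⊥
  closed : Cfsg.IsStronglyClosed S (T : Subgroup G)
  proper : H ≠ ⊤
  cent : ∀ s ∈ S, s ≠ 1 → centralizer ({s} : Set G) ≤ H
  norm : normalizer ((Cfsg.omegaOne 2 S : Subgroup G) : Set G) ≤ H

namespace Loc

variable {T : Sylow 2 G} {S H : Subgroup G} (h : Loc T S H)
include h

theorem le : S ≤ (T : Subgroup G) := h.closed.1

theorem normalizer_le : normalizer (S : Set G) ≤ H := by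
  refine fun g hg => h.norm (SEBrick.mem_normalizer_of fun x hx => ?_)
  have hle : Cfsg.omegaOne 2 S ≤ (Cfsg.omegaOne 2 S).comap (MulAut.conj g).toMonoidHom := by
    refine (closure_le _).2 fun y hy => subset_closure ⟨SEBrick.conj_mem_of hg hy.1, ?_⟩
    show (g * y * g⁻¹) ^ 2 = 1
    rw [conj_pow, hy.2, mul_one, mul_inv_cancel]
  exact hle hx

theorem sylow_le_normalizer : (T : Subgroup G) ≤ normalizer (S : Set G) :=
  SEBrick.le_normalizer_of fun t ht s hs => h.closed.2 s hs t (mul_mem (mul_mem ht (h.le hs)) (inv_mem ht))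

theorem sylow_le : (T : Subgroup G) ≤ H := h.sylow_le_normalizer.trans h.normalizer_le

theorem sylow_normalizer_le : normalizer ((T : Subgroup G) : Set G) ≤ H := fun _ hg =>
  h.normalizer_le (SEBrick.mem_normalizer_of fun s hs => h.closed.2 s hs _ (SEBrick.conj_mem_of hg (h.le hs)))

theorem conj_into {Y : Subgroup G} (hY : Y ≤ H) (hp : IsPGroup 2 Y) :
    ∃ k ∈ H, ∀ y ∈ Y, k * y * k⁻¹ ∈ (T : Subgroup G) := by
  obtain ⟨k, hk, hle⟩ := LESylow.exists_conj_le_of_le hY hp (T.subtype h.sylow_le)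
  refine ⟨k, hk, fun y hy => ?_⟩
  have := hle ⟨y, hy, rfl⟩
  rwa [Sylow.coe_subtype, map_subgroupOf_eq_of_le h.sylow_le] at this

/-- A 2-element normalising a nontrivial subgroup of `S` lies in `H`. -/
theorem two_mem {V : Subgroup G} (hV : V ≤ S) (hV1 : V ≠ ⊥) {x : G} (hx : x ∈ normalizer (V : Set G))
    (hx2 : IsPGroup 2 (zpowers x)) : x ∈ H := by
  haveI : Fact (Nat.Prime 2) := ⟨Nat.prime_two⟩
  set W := V ⊔ zpowers x with hW
  have hWp : IsPGroup 2 W :=
    IsPGroup.to_sup_of_normal_left' (T.isPGroup'.to_le (hV.trans h.le)) hx2 (zpowers_le.2 hx)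
  have hxW : x ∈ W := mem_sup_right (mem_zpowers x)
  have hWn : W ≤ normalizer (V : Set G) := sup_le le_normalizer (zpowers_le.2 hx)
  haveI : (V.subgroupOf W).Normal := ⟨fun a ha b => by
    show (b : G) * a * (b : G)⁻¹ ∈ V
    exact SEBrick.conj_mem_of (hWn b.2) ha⟩
  obtain ⟨⟨v, hvW⟩, hv, hv2, hvc⟩ := NormalFour.exists_central_mem hWp (N := V.subgroupOf W) fun e => hV1
    ((subgroupOf_eq_bot.1 e).eq_bot_of_le le_sup_left)
  rw [Subgroup.orderOf_mk] at hv2
  exact h.cent v (hV hv) (Invol.ne_one hv2) (mem_centralizer_singleton_iff.2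
    (congrArg Subtype.val (mem_center_iff.1 hvc ⟨x, hxW⟩)))

/-- Fusion in `S` is controlled by `H`, subgroup by subgroup. -/
theorem control_aux : ∀ n, ∀ V : Subgroup G, V ≤ S → V ≠ ⊥ → Nat.card S - Nat.card V = n →
    ∀ g : G, (∀ v ∈ V, g * v * g⁻¹ ∈ S) → g ∈ H := by
  haveI : Fact (Nat.Prime 2) := ⟨Nat.prime_two⟩
  intro n
  induction n using Nat.strong_induction_on with
  | _ n ih =>
  intro V hV hV1 hn g hg
  by_cases hVS : V = S
  · exact h.normalizer_le (SEBrick.mem_normalizer_of fun s hs => hg s (hVS ▸ hs))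
  -- the part of `S` normalising `V` is larger
  have hlt : V < S := lt_of_le_of_ne hV hVS
  obtain ⟨x₀, hx₀, hx₀V⟩ := SetLike.exists_of_lt
    (Fusion.lt_inf_normalizer (T.isPGroup'.to_le h.le).isNilpotent hlt)
  set U := S ⊓ normalizer (V : Set G) with hU
  have hVU : V ≤ U := le_inf hV le_normalizer
  have hcard : Nat.card V < Nat.card U := by
    refine lt_of_le_of_ne (card_le_of_le hVU) fun e => hx₀V ?_
    exact (eq_of_le_of_card_ge hVU e.ge).ge hx₀
  obtain ⟨R₀, hR₀⟩ := ((T.isPGroup'.to_le ((inf_le_left : U ≤ S).trans h.le)).comap_of_injective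
    (normalizer (V : Set G)).subtype (normalizer (V : Set G)).subtype_injective).exists_le_sylow
  set R := (R₀ : Subgroup (normalizer (V : Set G))).map (normalizer (V : Set G)).subtype with hR
  have hRp : IsPGroup 2 R := R₀.isPGroup'.map _
  have hRN : R ≤ normalizer (V : Set G) := map_subtype_le _
  have hUR : U ≤ R := fun u hu => ⟨⟨u, hu.2⟩, hR₀ (show (u : G) ∈ U from hu), rfl⟩
  have hRH : R ≤ H := fun r hr => h.two_mem hV hV1 (hRN hr) (hRp.to_le (zpowers_le.2 hr))
  obtain ⟨k, hk, hkR⟩ := h.conj_into hRH hRp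
  -- the image lies in `H`
  set V' := V.map (MulAut.conj g).toMonoidHom with hV'
  have hV'S : V' ≤ S := by rintro _ ⟨v, hv, rfl⟩; exact hg v hv
  have hV'1 : V' ≠ ⊥ := fun e => hV1 ((map_eq_bot_iff_of_injective _ (MulAut.conj g).injective).1 e)
  set R' := R.map (MulAut.conj g).toMonoidHom with hR'
  have hR'H : R' ≤ H := by
    rintro _ ⟨r, hr, rfl⟩
    refine h.two_mem hV'S hV'1 (le_normalizer_map _ ⟨r, hRN hr, rfl⟩) ?_
    exact (hRp.map _).to_le (zpowers_le.2 ⟨r, hr, rfl⟩)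
  obtain ⟨k', hk', hkR'⟩ := h.conj_into hR'H (hRp.map _)
  -- a larger subgroup moved inside `S`
  set V₁ := S ⊓ R.map (MulAut.conj k).toMonoidHom with hV₁
  have hsub : U.map (MulAut.conj k).toMonoidHom ≤ V₁ := by
    rintro _ ⟨u, hu, rfl⟩
    exact ⟨h.closed.2 u hu.1 k (hkR u (hUR hu)), ⟨u, hUR hu, rfl⟩⟩
  have hcard₁ : Nat.card V < Nat.card V₁ :=
    lt_of_lt_of_le (lt_of_lt_of_eq hcard (Subgroup.card_map_of_injective (MulAut.conj k).injective).symm)
      (card_le_of_le hsub)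
  have hV₁1 : V₁ ≠ ⊥ := fun e => by
    rw [e, card_bot] at hcard₁
    exact absurd hcard₁ (not_lt.2 Nat.card_pos)
  have hle₁ : Nat.card V₁ ≤ Nat.card S := card_le_of_le inf_le_left
  have hy := ih (Nat.card S - Nat.card V₁) (by omega) V₁ inf_le_left hV₁1 rfl (k' * g * k⁻¹) ?_
  · simpa [mul_assoc] using mul_mem (mul_mem (inv_mem hk') hy) hk
  · rintro w ⟨hwS, r, hr, rfl⟩
    refine h.closed.2 _ hwS _ ?_
    convert hkR' (g * r * g⁻¹) ⟨r, hr, rfl⟩ using 1
    show k' * g * k⁻¹ * (k * r * k⁻¹) * (k' * g * k⁻¹)⁻¹ = k' * (g * r * g⁻¹) * k'⁻¹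
    group

/-- An element of `S` fixes one point only. -/
theorem free {t : G} (ht : t ∈ S) (ht1 : t ≠ 1) {a : G} (ha : a⁻¹ * t * a ∈ H) : a ∈ H := by
  have hp : IsPGroup 2 (zpowers (a⁻¹ * t * a)) := by
    have := (T.isPGroup'.to_le (zpowers_le.2 (h.le ht))).map (MulAut.conj a⁻¹).toMonoidHom
    rwa [MonoidHom.map_zpowers, show (MulAut.conj a⁻¹).toMonoidHom t = a⁻¹ * t * a by simp] at this
  obtain ⟨k, hk, hle⟩ := h.conj_into (zpowers_le.2 ha) hp
  have h1 : k * a⁻¹ * t * (k * a⁻¹)⁻¹ ∈ (T : Subgroup G) := by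
    convert hle _ (mem_zpowers _) using 1
    group
  have hVle : zpowers t ≤ S := zpowers_le.2 ht
  have h2 := h.control_aux _ (zpowers t) hVle (fun e => ht1 (zpowers_eq_bot.1 e)) rfl (k * a⁻¹) fun v hv => by
    obtain ⟨i, rfl⟩ := mem_zpowers_iff.1 hv
    rw [← conj_zpow]
    exact zpow_mem (h.closed.2 t ht _ h1) i
  simpa using mul_mem (inv_mem h2) hk

/-- The hypotheses of the criterion for strong embedding. -/
theorem data : ∃ z, z ∈ S ∧ GateCons.Data H z :=
  GateCons.data_of_strongly_closed T h.ne h.closed h.proper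
    (fun t ht ho => h.cent t ht (Invol.ne_one ho)) h.sylow_normalizer_le

/-- Strong embedding, once the involutions of the Sylow part of the normal closure fix one point. -/
theorem se_of_free (K : Subgroup G) [K.Normal] (hSK : S ≤ K)
    (hfree : ∀ x ∈ (T : Subgroup G), x ∈ K → orderOf x = 2 → ∀ a : G, a⁻¹ * x * a ∈ H → a ∈ H) :
    Cfsg.IsStronglyEmbedded ((H ⊓ K).subgroupOf K) := by
  rw [inf_subgroupOf_right]
  obtain ⟨z, hzS, d⟩ := h.data
  refine ⟨fun e => h.proper (eq_top_iff.2 fun g _ => ?_), ?_, ?_⟩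
  · exact d.fix g (subgroupOf_eq_top.1 e (‹K.Normal›.conj_mem z (hSK hzS) g))
  · exact Invol.even_of_invol_mem (t := (⟨z, hSK hzS⟩ : K)) (by rw [← Subgroup.orderOf_coe]; exact d.order) d.mem
  · rintro ⟨g, hgK⟩ hgH
    rw [← Nat.not_even_iff_odd]
    intro he
    obtain ⟨⟨x, hxK⟩, hx, hx2⟩ := Invol.exists_invol he
    rw [← Subgroup.orderOf_coe] at hx2
    obtain ⟨h1, h2⟩ := mem_inf.1 hx
    rw [Invol.mem_conj_map] at h2
    have h2' : g⁻¹ * x * g ∈ H := mem_subgroupOf.1 h2
    haveI : Fact (Nat.Prime 2) := ⟨Nat.prime_two⟩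
    obtain ⟨k, hk, hle⟩ := h.conj_into (zpowers_le.2 (mem_subgroupOf.1 h1))
      (LESylow.isPGroup_zpowers (k := 1) (by rw [hx2, pow_one]))
    have h3 := hfree _ (hle x (mem_zpowers x)) (‹K.Normal›.conj_mem x hxK k)
      ((Invol.order_conj k x).trans hx2) (k * g) (by convert h2' using 1; group)
    exact hgH (mem_subgroupOf.2 (by simpa using mul_mem (inv_mem hk) h3))

end Loc

/-- A 2-element of the product of a normal subgroup with one of odd order lies in the first. -/
theorem mem_of_mem_sup_odd {N O : Subgroup G} [N.Normal] (hO : Odd (Nat.card O)) {p : G}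
    (hp : IsPGroup 2 (zpowers p)) (h : p ∈ N ⊔ O) : p ∈ N := by
  obtain ⟨n, hn, o, ho, rfl⟩ := mem_sup_of_normal_left.1 h
  set π := QuotientGroup.mk' N with hπ
  have e : π (n * o) = π o := by
    rw [map_mul, show π n = 1 from (QuotientGroup.eq_one_iff n).2 hn, one_mul]
  obtain ⟨i, hi⟩ := IsPGroup.iff_orderOf.1 hp ⟨n * o, mem_zpowers _⟩
  rw [Subgroup.orderOf_mk] at hi
  have h1 : orderOf (π (n * o)) ∣ 2 ^ i := hi ▸ orderOf_map_dvd π _
  have h2 : orderOf (π (n * o)) ∣ Nat.card O := by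
    rw [e]; exact (orderOf_map_dvd π o).trans (Subgroup.orderOf_dvd_natCard O ho)
  have h3 := Nat.eq_one_of_dvd_coprimes ((Nat.coprime_two_left.2 hO).pow_left i) h1 h2
  exact (QuotientGroup.eq_one_iff (n * o)).1 (orderOf_eq_one_iff.1 h3)

end Cfsg.Agent.ClosedLocal
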