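import Cfsg.Agent.Lib.ClosedLocal.Local
import Cfsg.Agent.Lib.ClosedLocal.Cyclic
import Cfsg.Agent.Lib.ClosedLocal.Irr
import Cfsg.Agent.Lib.GateCons.Split
import Cfsg.Agent.Lib.GateCons.Modulo
import Cfsg.Agent.Lib.SEMain.Bender

/-!
The local overgroup theorem when the strongly closed subgroup has two commuting involutions.
-/

set_option autoImplicit false
set_option linter.style.haveILetI false
set_option linter.unusedSectionVars false

namespace Cfsg.Agent.ClosedLocal

open Subgroup
open Cfsg.Agent.GateCons (Gate Cover coreOdd)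

universe u

variable {G : Type u} [Group G] [Finite G]

/-- Commuting involutions generate a 2-group. -/
theorem isPGroup_closure_invol {s : Set G} (h2 : ∀ x ∈ s, x * x = 1) (hc : ∀ x ∈ s, ∀ y ∈ s, x * y = y * x) :
    IsPGroup 2 (closure s) := by
  have h1 : closure s ≤ centralizer s :=
    (closure_le _).2 fun x hx => mem_centralizer_iff.2 fun y hy => hc y hy x hx
  have h3 : closure s ≤ centralizer (closure s : Set G) :=
    (closure_le _).2 fun x hx => mem_centralizer_iff.2 fun y hy => (mem_centralizer_iff.1 (h1 hy) x hx).symm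
  rintro ⟨a, ha⟩
  refine ⟨1, Subtype.ext ?_⟩
  show a ^ 2 ^ 1 = 1
  rw [pow_one, pow_two]
  induction ha using closure_induction with
  | mem x hx => exact h2 x hx
  | one => rw [one_mul]
  | mul x y hx hy ix iy =>
    have e : y * x = x * y := mem_centralizer_iff.1 (h3 hx) y hy
    calc x * y * (x * y) = x * (y * x) * y := by group
      _ = x * x * (y * y) := by rw [e]; group
      _ = 1 := by rw [ix, iy, one_mul]
  | inv x hx ix => rw [← mul_inv_rev, ix, inv_one]

variable {T : Sylow 2 G} {S H : Subgroup G}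

/-- The odd core lies in the overgroup. -/
theorem Loc.oddCore_le (h : Loc T S H) (hp : SEMain.HasPair S) : Cfsg.oddCore G ≤ H := by
  haveI : (Cfsg.oddCore G).Normal := FittingCores.pPrimeCore_normal 2
  obtain ⟨E, hES, hE⟩ := hp.exists_four
  haveI := hE.1.1
  obtain ⟨n, hn⟩ := (IsPGroup.iff_card (p := 2)).1 hE.isPGroup
  have hcop : (Nat.card E).Coprime (Nat.card (Cfsg.oddCore G)) := by
    rw [hn]; exact (Nat.coprime_two_left.2 SEBrick.oddCore_odd).pow_left n
  rw [← CoprimeAct.generated_by_centralizers hE.not_isCyclic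
    (le_of_le_of_eq le_top (normalizer_eq_top (Cfsg.oddCore G)).symm) hcop]
  exact iSup₂_le fun a ha => inf_le_right.trans (h.cent a (hES ha.1) ha.2)

/-- The local overgroup theorem for a subgroup of rank at least two. -/
theorem rank_two (hg : Gate.{u}) (hSt : SEMain.Stmt.{u}) (hcov : Cover.{u}) (h : Loc T S H)
    (hp : SEMain.HasPair S) :
    Cfsg.IsStronglyEmbedded ((H ⊓ normalClosure (S : Set G)).subgroupOf (normalClosure (S : Set G))) ∧
      (S = (T : Subgroup G) ⊓ normalClosure (S : Set G) ∨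
        S = Cfsg.omegaOne 2 ((T : Subgroup G) ⊓ normalClosure (S : Set G))) := by
  haveI : Fact (Nat.Prime 2) := ⟨Nat.prime_two⟩
  obtain ⟨z, hzS, d⟩ := h.data
  set K := normalClosure ({z} : Set G) with hK
  haveI hKn : K.Normal := normalClosure_normal
  have hzK : z ∈ K := subset_normalClosure rfl
  set π := QuotientGroup.mk' (coreOdd H) with hπ
  have hsurj : Function.Surjective π := QuotientGroup.mk'_surjective _
  have hOM : coreOdd H ≤ H := GateCons.coreOdd_le H
  have hOodd := GateCons.coreOdd_odd H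
  have hmem : ∀ {g : G}, π g ∈ H.map π ↔ g ∈ H := fun {g} => SEMain.mem_map_iff hOM
  have hTH := h.sylow_le
  have hinj : ∀ a ∈ (T : Subgroup G), π a = 1 → a = 1 := fun a ha e => by
    refine mem_bot.1 (mem_of_mem_sup_odd (N := ⊥) hOodd (T.isPGroup'.to_le (zpowers_le.2 ha)) ?_)
    exact mem_sup_right ((QuotientGroup.eq_one_iff a).1 e)
  have hfree : ∀ t ∈ S, ∀ a, a ∉ H → a⁻¹ * t * a ∈ H → t = 1 := fun t ht a ha hta =>
    by_contra fun ht1 => ha (h.free ht ht1 hta)
  have hScore : ∀ t ∈ S, t ∈ H.normalCore → t = 1 := fun t ht htc => by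
    by_contra ht1
    refine h.proper (eq_top_iff.2 fun a _ => h.free ht ht1 (H.normalCore_le ?_))
    simpa using H.normalCore_normal.conj_mem t htc a⁻¹
  -- three commuting conjugates
  have hodd : Odd (Nat.card ↥(K ⊓ H.normalCore)) := by
    refine d.odd_of_cover hg hSt hcov fun a b c ha hb hc ca cb cc hab hac hbc hR => ?_
    have hord : ∀ {y : G}, IsConj z y → y * y = 1 := fun {y} hy => by
      obtain ⟨g, rfl⟩ := isConj_iff.1 hy
      exact Invol.mul_self ((Invol.order_conj g z).trans d.order)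
    set A := closure ({π a, π b, π c} : Set (G ⧸ coreOdd H)) with hA
    have hA2 : IsPGroup 2 A := by
      refine isPGroup_closure_invol (fun x hx => ?_) fun x hx y hy => ?_
      · rcases hx with rfl | rfl | rfl <;> rw [← map_mul]
        · rw [hord ca, map_one]
        · rw [hord cb, map_one]
        · rw [hord cc, map_one]
      · rcases hx with rfl | rfl | rfl <;> rcases hy with rfl | rfl | rfl
        all_goals first
          | rfl | exact hab.eq | exact hab.symm.eq | exact hac.eq | exact hac.symm.eq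
          | exact hbc.eq | exact hbc.symm.eq
    have hAH : A.comap π ≤ H := fun x hx => by
      refine hmem.1 ((closure_le (H.map π)).2 ?_ hx)
      rintro y (rfl | rfl | rfl)
      · exact hmem.2 ha
      · exact hmem.2 hb
      · exact hmem.2 hc
    obtain ⟨E⟩ := (inferInstance : Nonempty (Sylow 2 (A.comap π)))
    have hfs := π.subgroupComap_surjective_of_surjective A hsurj
    have hEtop : ((E.mapSurjective hfs : Sylow 2 A) : Subgroup A) = ⊤ :=
      ((E.mapSurjective hfs).is_maximal' (hA2.to_subgroup ⊤) le_top).symm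
    obtain ⟨k, hk, hkE⟩ := h.conj_into ((map_subtype_le (E : Subgroup (A.comap π))).trans hAH)
      (E.isPGroup'.map _)
    have hrep : ∀ y : G, π y ∈ A → IsConj z y → ∃ e : G, π e = π y ∧ k * e * k⁻¹ ∈ S := by
      intro y hyA hy
      obtain ⟨e, he, hee⟩ : (⟨π y, hyA⟩ : A) ∈ ((E.mapSurjective hfs : Sylow 2 A) : Subgroup A) := by
        rw [hEtop]; exact mem_top _
      have hee' : π (e : G) = π y := congrArg Subtype.val hee
      have hkT := hkE _ ⟨e, he, rfl⟩
      have he2 : (e : G) * e = 1 := by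
        have h1 : k * ((e : G) * e) * k⁻¹ = 1 := by
          refine hinj _ ?_ ?_
          · rw [show k * ((e : G) * e) * k⁻¹ = k * e * k⁻¹ * (k * e * k⁻¹) by group]
            exact mul_mem hkT hkT
          · rw [map_mul, map_mul, map_inv, map_mul, hee', ← map_mul, hord hy, map_one, mul_one,
              mul_inv_cancel]
        exact conj_eq_one_iff.1 h1
      have hy2 : orderOf y = 2 := by
        obtain ⟨g, rfl⟩ := isConj_iff.1 hy
        exact (Invol.order_conj g z).trans d.order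
      have he1 : (e : G) ≠ 1 := fun e1 => by
        have hyO : y ∈ coreOdd H := (QuotientGroup.eq_one_iff y).1 (by
          show π y = 1
          rw [← hee', e1, map_one])
        have := SEBrick.odd_order hOodd hyO
        rw [hy2] at this
        exact absurd this (by decide)
      have hodd' : Odd (orderOf (y * e)) := by
        refine SEBrick.odd_order hOodd ((QuotientGroup.eq_one_iff _).1 ?_)
        show π (y * e) = 1
        rw [map_mul, hee', ← map_mul, hord hy, map_one]
      obtain ⟨m, -, hm⟩ := Invol.conj_of_odd hy2 (Invol.order_two_of_sq he2 he1) hodd'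
      obtain ⟨g, rfl⟩ := isConj_iff.1 hy
      refine ⟨e, hee', ?_⟩
      have hz' : k * (e : G) * k⁻¹ = k * m * g * z * (k * m * g)⁻¹ := by
        rw [← hm]; group
      have hkT' : k * (e : G) * k⁻¹ ∈ (T : Subgroup G) := hkT
      rw [hz'] at hkT' ⊢
      exact h.closed.2 z hzS _ hkT'
    obtain ⟨e₁, h1, k1⟩ := hrep a (subset_closure (Set.mem_insert _ _)) ca
    obtain ⟨e₂, h2, k2⟩ := hrep b (subset_closure (Set.mem_insert_of_mem _ (Set.mem_insert _ _))) cb
    obtain ⟨e₃, h3, k3⟩ := hrep c (subset_closure (Set.mem_insert_of_mem _ (Set.mem_insert_of_mem _ rfl))) cc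
    have he : π (e₁ * e₂ * e₃) = π (a * b * c) := by simp only [map_mul, h1, h2, h3]
    have hcore : e₁ * e₂ * e₃ ∈ H.normalCore := by
      have := mul_mem hR ((inf_le_right : coreOdd H ≤ _) (QuotientGroup.eq.1 he.symm))
      rwa [mul_inv_cancel_left] at this
    have hp1 : k * (e₁ * e₂ * e₃) * k⁻¹ = 1 := by
      refine hScore _ ?_ (H.normalCore_normal.conj_mem _ hcore k)
      rw [show k * (e₁ * e₂ * e₃) * k⁻¹ = k * e₁ * k⁻¹ * (k * e₂ * k⁻¹) * (k * e₃ * k⁻¹) by group]
      exact mul_mem (mul_mem k1 k2) k3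
    refine (QuotientGroup.eq_one_iff _).1 ?_
    show π (a * b * c) = 1
    rw [← he, conj_eq_one_iff.1 hp1, map_one]
  -- elements of `S` and of the Sylow part of `K` fix one point
  have key : ∀ w ∈ S ⊔ (T : Subgroup G) ⊓ K, ∀ a : G, a ∉ H → a⁻¹ * w * a ∈ H → w = 1 :=
    fun w hw a ha hwa => d.eq_one_mod hg hSt hodd T hTH h.le hzS h.sylow_le_normalizer hfree
      (fun j _ t ht hjt => h.closed.2 t ht j hjt) hw ha hwa
  -- a pair in the quotient
  obtain ⟨hse, hcore⟩ := d.se_mod hg hodd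
  haveI : (K.map π).Normal := Normal.map hKn π hsurj
  have hp' : SEMain.HasPair ((H.map π).subgroupOf (K.map π)) := by
    obtain ⟨g, hgc, hgne⟩ : ∃ g : G, Commute z (g * z * g⁻¹) ∧ g * z * g⁻¹ ≠ z := by
      by_contra hno
      simp only [not_exists, not_and, not_not] at hno
      have hZ := BrauerSuzuki.zStar G _ d.order hno
      refine h.proper (eq_top_iff.2 fun g _ => d.fix g ?_)
      have := mul_mem (h.oddCore_le hp (hZ g)) d.mem
      simpa using this
    have hcK : g * z * g⁻¹ ∈ K := hKn.conj_mem z hzK g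
    have hcH : g * z * g⁻¹ ∈ H := d.centralizer_le (mem_centralizer_singleton_iff.2 hgc.symm.eq)
    have hc2 : orderOf (g * z * g⁻¹) = 2 := (Invol.order_conj g z).trans d.order
    refine ⟨⟨π z, z, hzK, rfl⟩, ⟨π (g * z * g⁻¹), g * z * g⁻¹, hcK, rfl⟩,
      mem_subgroupOf.2 (hmem.2 d.mem), mem_subgroupOf.2 (hmem.2 hcH), ?_, ?_, fun e => hgne ?_,
      Subtype.ext (hgc.map π).eq⟩
    · rw [← Subgroup.orderOf_coe]; exact SEMain.order_mk hOM hOodd d.order
    · rw [← Subgroup.orderOf_coe]; exact SEMain.order_mk hOM hOodd hc2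
    · by_contra hne
      have ho := SEBrick.odd_order hOodd (QuotientGroup.eq.1 (congrArg Subtype.val e))
      rw [Invol.inv_self d.order, GateCons.order_mul_commute d.order hc2 hgc hne] at ho
      exact absurd ho (by decide)
  -- the quotient Sylow subgroup
  set T' := T.mapSurjective hsurj
  have hlift : ∀ t ∈ (T : Subgroup G), π t ∈ K.map π → t ∈ K := by
    rintro t ht ⟨k, hk, e⟩
    refine mem_of_mem_sup_odd hOodd (T.isPGroup'.to_le (zpowers_le.2 ht)) ?_
    have := mul_mem (mem_sup_left (T := coreOdd H) hk) (mem_sup_right (S := K) (QuotientGroup.eq.1 e))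
    rwa [mul_inv_cancel_left] at this
  obtain ⟨Q, hQ⟩ := SEMain.exists_reg hSt hse hcore hp'
  have hQeq := GateCons.reg_eq_inter T' (map_mono hTH) hse hQ
  -- `S` lies in the normal closure of `z`
  have hSK : S ≤ K := by
    intro s hs
    obtain ⟨g, hgH⟩ := GateCons.exists_not_mem_of_ne_top h.proper
    set a := g * z * g⁻¹ with ha
    have haK : a ∈ K := hKn.conj_mem z hzK g
    have haH : a ∉ H := fun hm => hgH (d.fix g hm)
    obtain ⟨k, hk, n, hn, hkn⟩ := GateCons.exists_factor d.sup_eq_top (s * a)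
    have hkH : k ∉ H := fun hm => haH (by
      have := mul_mem (inv_mem (hTH (h.le hs))) (mul_mem hm hn)
      rwa [hkn, inv_mul_cancel_left] at this)
    obtain ⟨u, hu, he⟩ := hQ.trans ⟨π a, a, haK, rfl⟩ ⟨π k, k, hk, rfl⟩
      (fun hm => haH (hmem.1 (mem_subgroupOf.1 hm))) (fun hm => hkH (hmem.1 (mem_subgroupOf.1 hm)))
    rw [hQeq] at hu
    obtain ⟨q, hqT, hqe⟩ := hu
    have hqK : q ∈ K := hlift q hqT (hqe ▸ u.2)
    have h1 : k⁻¹ * (q * a) ∈ H := by
      refine hmem.1 ?_
      rw [map_mul, map_mul, map_inv, hqe]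
      exact mem_subgroupOf.1 he
    have hw := key (s⁻¹ * q) (mul_mem (mem_sup_left (inv_mem hs)) (mem_sup_right ⟨hqT, hqK⟩)) a haH (by
      have h2 : a⁻¹ * s⁻¹ = n⁻¹ * k⁻¹ := by rw [← mul_inv_rev, ← hkn, mul_inv_rev]
      rw [show a⁻¹ * (s⁻¹ * q) * a = a⁻¹ * s⁻¹ * (q * a) by group, h2, mul_assoc]
      exact mul_mem (inv_mem hn) h1)
    rw [inv_mul_eq_one] at hw
    rw [hw]; exact hqK
  have hX : normalClosure (S : Set G) = K :=
    le_antisymm (normalClosure_le_normal hSK) (normalClosure_le_normal fun y hy => by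
      rw [Set.mem_singleton_iff] at hy
      exact hy ▸ subset_normalClosure hzS)
  rw [hX]
  refine ⟨h.se_of_free K hSK fun x hxT hxK hx2 a hxa => by_contra fun ha =>
    Invol.ne_one hx2 (key x (mem_sup_right ⟨hxT, hxK⟩) a ha hxa), ?_⟩
  -- the involutions of the Sylow part lie in `S`
  have hinv : ∀ x ∈ (T : Subgroup G) ⊓ K, x * x = 1 → x ∈ S := by
    intro x hx hx2
    by_cases hx1 : x = 1
    · rw [hx1]; exact one_mem S
    have hxo := Invol.order_two_of_sq hx2 hx1
    obtain ⟨k, hk⟩ := isConj_iff.1 (Invol.se_isConj (d.se_of_odd hg hodd)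
      (a := (⟨z, hzK⟩ : K)) (b := ⟨x, hx.2⟩) (by rw [← Subgroup.orderOf_coe]; exact d.order)
      (by rw [← Subgroup.orderOf_coe]; exact hxo))
    have hk' : (k : G) * z * (k : G)⁻¹ = x := congrArg Subtype.val hk
    rw [← hk']
    exact h.closed.2 z hzS k (hk' ▸ hx.1)
  have hΩ : Cfsg.omegaOne 2 ((T : Subgroup G) ⊓ K) ≤ S :=
    (closure_le _).2 fun x hx => hinv x hx.1 (by rw [← pow_two]; exact hx.2)
  have hSTK : S ≤ (T : Subgroup G) ⊓ K := le_inf h.le hSK
  -- the quotient is a group of the Bender list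
  obtain ⟨L, hLn, hLodd, hLB⟩ := SEMain.exists_bender hSt hse hcore hp'
  obtain ⟨R, hR⟩ := GateCons.exists_sylow_inter T' (K.map π)
  obtain ⟨RL, hRL⟩ := GateCons.exists_sylow_inter R L
  have hLtwo : ∀ y ∈ (R : Subgroup (K.map π)), y ∈ L := by
    intro y hy
    obtain ⟨i, hi⟩ := IsPGroup.iff_orderOf.1 R.isPGroup' ⟨y, hy⟩
    rw [Subgroup.orderOf_mk] at hi
    have h1 : orderOf (y : _ ⧸ L) ∣ 2 ^ i := hi ▸ orderOf_map_dvd (QuotientGroup.mk' L) y
    have h2 : orderOf (y : _ ⧸ L) ∣ L.index := orderOf_dvd_natCard _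
    exact (QuotientGroup.eq_one_iff y).1 (orderOf_eq_one_iff.1
      (Nat.eq_one_of_dvd_coprimes ((Nat.coprime_two_left.2 hLodd).pow_left i) h1 h2))
  have hmemR : ∀ {t : G} (ht : t ∈ (T : Subgroup G)) (htK : t ∈ K),
      (⟨π t, t, htK, rfl⟩ : K.map π) ∈ (R : Subgroup (K.map π)) := fun {t} ht htK => by
    rw [hR]; exact ⟨t, ht, rfl⟩
  have hcl := closed_map h.closed π hsurj (coreOdd H) (by rw [hπ, QuotientGroup.ker_mk'])
    (by rw [hπ, QuotientGroup.ker_mk']; exact le_sup_right)
  set W := ((S.map π).subgroupOf (K.map π)).subgroupOf L with hW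
  have hWRL : W ≤ (RL : Subgroup L) := by
    intro y hy
    rw [hRL, mem_subgroupOf, hR, mem_subgroupOf]
    exact hcl.1 hy
  have hWinv : ∀ y ∈ (RL : Subgroup L), y * y = 1 → y ∈ W := by
    intro y hy hy2
    rw [hRL, mem_subgroupOf, hR, mem_subgroupOf] at hy
    obtain ⟨t, ht, hte⟩ := hy
    have htK : t ∈ K := hlift t ht (hte ▸ ((y : K.map π)).2)
    have ht2 : t * t = 1 := hinj _ (mul_mem ht ht) (by
      rw [map_mul, hte]
      exact congrArg (fun v : L => ((v : K.map π) : G ⧸ coreOdd H)) hy2)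
    exact ⟨t, hinv t ⟨ht, htK⟩ ht2, hte⟩
  have hWn : ∀ e ∈ normalizer ((RL : Subgroup L) : Set L), ∀ y ∈ W, e * y * e⁻¹ ∈ W := by
    intro e he y hy
    have h2 := SEBrick.conj_mem_of he (hWRL hy)
    rw [hRL, mem_subgroupOf, hR, mem_subgroupOf] at h2
    exact hcl.2 _ hy _ h2
  rcases irr_bender hLB RL W hWRL hWinv hWn with hel | htop
  · refine Or.inr (le_antisymm (fun s hs => ?_) hΩ)
    have hsmem : s ∈ {x : G | x ∈ (T : Subgroup G) ⊓ K ∧ x ^ 2 = 1} := by
      refine ⟨hSTK hs, ?_⟩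
      rw [pow_two]
      refine hinj _ (mul_mem (h.le hs) (h.le hs)) ?_
      rw [map_mul]
      exact congrArg (fun v : L => ((v : K.map π) : G ⧸ coreOdd H))
        (hel (⟨⟨π s, s, hSK hs, rfl⟩, hLtwo _ (hmemR (h.le hs) (hSK hs))⟩ : L) ⟨s, hs, rfl⟩)
    exact Subgroup.subset_closure hsmem
  · refine Or.inl (le_antisymm hSTK fun t ht => ?_)
    obtain ⟨s, hs, hse'⟩ := htop (show (⟨⟨π t, t, ht.2, rfl⟩, hLtwo _ (hmemR ht.1 ht.2)⟩ : L) ∈
        (RL : Subgroup L) by
      rw [hRL]; exact hmemR ht.1 ht.2)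
    have h1 : s⁻¹ * t = 1 := hinj _ (mul_mem (inv_mem (h.le hs)) ht.1) (by
      rw [map_mul, map_inv, show π s = π t from hse', inv_mul_cancel])
    rw [← inv_mul_eq_one.1 h1]
    exact hs

end Cfsg.Agent.ClosedLocal
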