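import Cfsg.Agent.Lib.ClosedLocal.RankOne
import Cfsg.Agent.Lib.ClosedLocal.RankTwo
import Cfsg.Agent.Lib.GateCons.CoverProof
import Cfsg.Agent.Lib.SEMain.Proof

/-!
The local overgroup theorem for strongly closed 2-subgroups (S3289), from the criterion for strong
embedding.
-/

set_option autoImplicit false
set_option linter.style.haveILetI false
set_option linter.unusedSectionVars false

namespace Cfsg.Agent.ClosedLocal

open Subgroup
open Cfsg.Agent.GateCons (Gate)

universe u

variable {G : Type u} [Group G] [Finite G]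

/-- Two distinct involutions in a 2-group give two commuting ones. -/
theorem exists_pair_of_two {T : Sylow 2 G} {S : Subgroup G} (hS : S ≤ (T : Subgroup G))
    (h : ¬ ∀ a ∈ S, ∀ b ∈ S, orderOf a = 2 → orderOf b = 2 → a = b) : SEMain.HasPair S := by
  haveI : Fact (Nat.Prime 2) := ⟨Nat.prime_two⟩
  push Not at h
  obtain ⟨a, ha, b, hb, ha2, hb2, hab⟩ := h
  haveI : Nontrivial S := ⟨⟨⟨a, ha⟩, ⟨b, hb⟩, fun e => hab (congrArg Subtype.val e)⟩⟩
  obtain ⟨⟨c, hc⟩, -, hc2, hcc⟩ := NormalFour.exists_central_mem (T.isPGroup'.to_le hS)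
    (N := (⊤ : Subgroup S)) top_ne_bot
  rw [Subgroup.orderOf_mk] at hc2
  have hcomm : ∀ y ∈ S, y * c = c * y := fun y hy => congrArg Subtype.val (mem_center_iff.1 hcc ⟨y, hy⟩)
  by_cases hac : a = c
  · exact ⟨b, c, hb, hc, hb2, hc2, fun e => hab (hac.trans e.symm), hcomm b hb⟩
  · exact ⟨a, c, ha, hc, ha2, hc2, hac, hcomm a ha⟩

/-- The local overgroup theorem for a strongly closed 2-subgroup. -/
theorem main (hg : Gate.{u}) (T : Sylow 2 G) (S : Subgroup G) (hS : S ≠ ⊥)
    (hsc : Cfsg.IsStronglyClosed S (T : Subgroup G)) (H : Subgroup G) (hH : H ≠ ⊤)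
    (hC : ∀ s ∈ S, s ≠ 1 → centralizer ({s} : Set G) ≤ H)
    (hN : normalizer ((Cfsg.omegaOne 2 S : Subgroup G) : Set G) ≤ H) :
    Cfsg.IsStronglyEmbedded ((H ⊓ normalClosure (S : Set G)).subgroupOf (normalClosure (S : Set G))) ∧
      (S = (T : Subgroup G) ⊓ normalClosure (S : Set G) ∨
        S = Cfsg.omegaOne 2 ((T : Subgroup G) ⊓ normalClosure (S : Set G))) ∧
      (Cfsg.PRankLE 2 1 ↥S → S = (T : Subgroup G) ⊓ normalClosure (S : Set G)) := by
  have h : Loc T S H := ⟨hS, hsc, hH, hC, hN⟩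
  by_cases hu : ∀ a ∈ S, ∀ b ∈ S, orderOf a = 2 → orderOf b = 2 → a = b
  · have heq : S = (T : Subgroup G) ⊓ normalClosure (S : Set G) :=
      le_antisymm (le_inf h.le fun s hs => subset_normalClosure hs)
        (inter_le_of_unique (CommPair.stmt hg) T S hS hsc hu)
    refine ⟨h.se_of_free _ (fun s hs => subset_normalClosure hs) fun x hxT hxK hx2 a ha => ?_,
      Or.inl heq, fun _ => heq⟩
    have hxS : x ∈ S := by rw [heq]; exact ⟨hxT, hxK⟩
    exact h.free hxS (Invol.ne_one hx2) ha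
  · have hp := exists_pair_of_two h.le hu
    obtain ⟨h1, h2⟩ := rank_two hg SEMain.stmt GateCons.cover h hp
    refine ⟨h1, h2, fun hr => ?_⟩
    exfalso
    obtain ⟨E, hES, hE⟩ := hp.exists_four
    have h3 := hr (E.subgroupOf S)
      (.of_setLike_mul_comm fun a ha b hb => Subtype.ext (hE.comm ha hb))
      (fun a ha => Subtype.ext (hE.1.2 a ha))
    rw [Nat.card_congr (subgroupOfEquivOfLe hES).toEquiv] at h3
    have := hE.2
    omega

end Cfsg.Agent.ClosedLocal
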