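import Cfsg.Agent.Lib.ClosedLocal.Cyclic
import Cfsg.Agent.Lib.SEBrick.Basic

/-!
A strongly closed generalised quaternion subgroup: elements, the element of order four in the cyclic
part, and the action on the cyclic part modulo the odd core.
-/

set_option autoImplicit false
set_option linter.style.haveILetI false
set_option linter.unusedSectionVars false

namespace Cfsg.Agent.ClosedLocal

open Subgroup

universe u

variable {G : Type u} [Group G] [Finite G]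

/-- A strongly closed quaternion subgroup `S` of the Sylow subgroup `P` with its involution `z`, a
generator `x` of a cyclic subgroup of index two normalised by `P`, and `e` of order four in it. -/
structure Quat (P : Sylow 2 G) (S : Subgroup G) (x e z : G) : Prop where
  closed : Cfsg.IsStronglyClosed S (P : Subgroup G)
  xS : x ∈ S
  ex : e ∈ zpowers x
  e2 : e * e = z
  z1 : z ≠ 1
  z2 : z * z = 1
  inv : ∀ w ∈ S, w * w = 1 → w = 1 ∨ w = z
  out : ∀ s ∈ S, s ∉ zpowers x → s * s = z ∧ s * x * s⁻¹ = x⁻¹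
  split : ∀ s ∈ S, ∀ t ∈ S, s ∉ zpowers x → t ∉ zpowers x → s⁻¹ * t ∈ zpowers x
  exists_out : ∃ s ∈ S, s ∉ zpowers x
  norm : ∀ t ∈ (P : Subgroup G), t * x * t⁻¹ ∈ zpowers x

namespace Quat

variable {P : Sylow 2 G} {S : Subgroup G} {x e z : G} (D : Quat P S x e z)
include D

theorem le : S ≤ (P : Subgroup G) := D.closed.1

theorem cyc_le : zpowers x ≤ S := zpowers_le.2 D.xS

theorem eS : e ∈ S := D.cyc_le D.ex

theorem zS : z ∈ S := D.e2 ▸ mul_mem D.eS D.eS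

theorem zx : z ∈ zpowers x := D.e2 ▸ mul_mem D.ex D.ex

theorem conj_mem {t s : G} (ht : t ∈ (P : Subgroup G)) (hs : s ∈ S) : t * s * t⁻¹ ∈ S :=
  D.closed.2 s hs t (mul_mem (mul_mem ht (D.le hs)) (inv_mem ht))

theorem conj_mem_cyc {t : G} (ht : t ∈ (P : Subgroup G)) {c : G} (hc : c ∈ zpowers x) :
    t * c * t⁻¹ ∈ zpowers x := by
  obtain ⟨i, rfl⟩ := mem_zpowers_iff.1 hc
  have h := map_zpow (MulAut.conj t) x i
  simp only [MulAut.conj_apply] at h
  rw [h]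
  exact zpow_mem (D.norm t ht) i

theorem inv_of_out {s : G} (hs : s ∈ S) (hx : s ∉ zpowers x) {c : G} (hc : c ∈ zpowers x) :
    s * c * s⁻¹ = c⁻¹ := by
  obtain ⟨i, rfl⟩ := mem_zpowers_iff.1 hc
  have h := map_zpow (MulAut.conj s) x i
  simp only [MulAut.conj_apply] at h
  rw [h, (D.out s hs hx).2, inv_zpow]

theorem e_inv : e⁻¹ = e * z := by
  refine inv_eq_of_mul_eq_one_right ?_
  rw [← mul_assoc, D.e2, D.z2]

theorem e_ne_inv : e ≠ e⁻¹ := fun h => D.z1 (by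
  rw [← D.e2]
  nth_rewrite 2 [h]
  rw [mul_inv_cancel])

theorem out_e {s : G} (hs : s ∈ S) (hx : s ∉ zpowers x) : s * e * s⁻¹ ≠ e := by
  rw [D.inv_of_out hs hx D.ex]
  exact D.e_ne_inv.symm

/-- The elements of order four of the cyclic part. -/
theorem quarter {c : G} (hc : c ∈ zpowers x) (h : c * c = z) : c = e ∨ c = e⁻¹ := by
  have hcm : Commute c e⁻¹ := by
    obtain ⟨i, rfl⟩ := mem_zpowers_iff.1 hc
    obtain ⟨j, hj⟩ := mem_zpowers_iff.1 D.ex
    rw [← hj]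
    exact ((Commute.refl x).zpow_zpow i j).inv_right
  have h2 : c * e⁻¹ * (c * e⁻¹) = 1 := by
    rw [← pow_two, hcm.mul_pow, pow_two, pow_two, h, ← mul_inv_rev, D.e2, mul_inv_cancel]
  rcases D.inv _ (mul_mem (D.cyc_le hc) (inv_mem D.eS)) h2 with h' | h'
  · exact Or.inl (mul_inv_eq_one.1 h')
  · right
    rw [mul_inv_eq_iff_eq_mul.1 h', D.e_inv, ← D.e2, mul_assoc]

theorem mem_zpowers_e {c : G} (hc : c ∈ zpowers x) (h : c * c = 1 ∨ c * c = z) : c ∈ zpowers e := by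
  rcases h with h | h
  · rcases D.inv c (D.cyc_le hc) h with rfl | rfl
    · exact one_mem _
    · exact D.e2 ▸ mul_mem (mem_zpowers e) (mem_zpowers e)
  · rcases D.quarter hc h with rfl | rfl
    · exact mem_zpowers _
    · exact inv_mem (mem_zpowers e)

theorem e_zpowers {v : G} (hv : v ∈ zpowers e) : v = 1 ∨ v = z ∨ v = e ∨ v = e⁻¹ := by
  obtain ⟨i, rfl⟩ := mem_zpowers_iff.1 hv
  have h2 : e ^ (2 : ℤ) = z := by rw [show (2 : ℤ) = ((2 : ℕ) : ℤ) from rfl, zpow_natCast, pow_two, D.e2]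
  have hz : z ^ (2 : ℤ) = 1 := by rw [show (2 : ℤ) = ((2 : ℕ) : ℤ) from rfl, zpow_natCast, pow_two, D.z2]
  rcases Int.even_or_odd' i with ⟨j, rfl | rfl⟩
  · rcases Int.even_or_odd' j with ⟨k, rfl | rfl⟩
    · left; rw [zpow_mul, h2, zpow_mul, hz, one_zpow]
    · right; left; rw [zpow_mul, h2, zpow_add, zpow_mul, hz, one_zpow, one_mul, zpow_one]
  · rcases Int.even_or_odd' j with ⟨k, rfl | rfl⟩
    · right; right; left
      rw [zpow_add, zpow_mul, h2, zpow_mul, hz, one_zpow, one_mul, zpow_one]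
    · right; right; right
      rw [zpow_add, zpow_mul, h2, zpow_add, zpow_mul, hz, one_zpow, one_mul,
        zpow_one, zpow_one, D.e_inv]
      exact (show Commute z e from D.e2 ▸ (Commute.refl e).mul_left (Commute.refl e)).eq

theorem norm_e {t : G} (ht : t ∈ (P : Subgroup G)) : t * e * t⁻¹ = e ∨ t * e * t⁻¹ = e⁻¹ := by
  refine D.quarter (D.conj_mem_cyc ht D.ex) ?_
  have h2 : (t * z * t⁻¹) * (t * z * t⁻¹) = 1 := by
    calc (t * z * t⁻¹) * (t * z * t⁻¹) = t * (z * z) * t⁻¹ := by group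
      _ = 1 := by rw [D.z2]; group
  rw [show t * e * t⁻¹ * (t * e * t⁻¹) = t * (e * e) * t⁻¹ by group, D.e2]
  exact (D.inv _ (D.conj_mem ht D.zS) h2).resolve_left fun h => D.z1 (conj_eq_one_iff.1 h)

theorem z_comm {t : G} (ht : t ∈ (P : Subgroup G)) : t * z = z * t := by
  refine mul_inv_eq_iff_eq_mul.1 ((D.inv _ (D.conj_mem ht D.zS) ?_).resolve_left fun h =>
    D.z1 (conj_eq_one_iff.1 h))
  calc (t * z * t⁻¹) * (t * z * t⁻¹) = t * (z * z) * t⁻¹ := by group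
    _ = 1 := by rw [D.z2]; group

/-- Conjugation by an element whose action on `e` is known. -/
theorem centralizer_inter : S ⊓ centralizer ({e} : Set G) = zpowers x := by
  refine le_antisymm (fun s hs => ?_) (le_inf D.cyc_le fun c hc => ?_)
  · by_contra hx
    refine D.out_e hs.1 hx ?_
    rw [mem_centralizer_singleton_iff.1 hs.2, mul_inv_cancel_right]
  · obtain ⟨i, rfl⟩ := mem_zpowers_iff.1 hc
    obtain ⟨j, hj⟩ := mem_zpowers_iff.1 D.ex
    rw [← hj]
    exact mem_centralizer_singleton_iff.2 ((Commute.refl x).zpow_zpow i j).eq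

/-- The action on the cyclic part is invariant under fusion by elements normalising `⟨e⟩`. -/
theorem action_eq {g t : G} (hg : g * e * g⁻¹ ∈ zpowers e) (ht : t ∈ (P : Subgroup G))
    (ht' : g * t * g⁻¹ ∈ (P : Subgroup G)) :
    g * t * g⁻¹ * x * (g * t * g⁻¹)⁻¹ = t * x * t⁻¹ := by
  haveI : Fact (Nat.Prime 2) := ⟨Nat.prime_two⟩
  set C := centralizer ({e} : Set G) with hC
  set P₁ := (P : Subgroup G) ⊓ C with hP₁
  have hCn : ∀ t ∈ (P : Subgroup G), ∀ c ∈ C, t * c * t⁻¹ ∈ C := by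
    intro t ht c hc
    rw [hC, mem_centralizer_singleton_iff] at hc ⊢
    have hcm : Commute (t * c * t⁻¹) (t * e * t⁻¹) := (show Commute c e from hc).map (MulAut.conj t)
    rcases D.norm_e ht with h | h <;> rw [h] at hcm
    · exact hcm.eq
    · simpa using hcm.inv_right.eq
  -- a Sylow subgroup of the centraliser
  have hmax : ∀ Y : Subgroup G, IsPGroup 2 Y → Y ≤ C → P₁ ≤ Y → Y = P₁ := by
    intro Y hY hYC hle
    set M := (P : Subgroup G) ⊔ C with hM
    have hPM : (P : Subgroup G) ≤ M := le_sup_left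
    obtain ⟨m, hm, hmle⟩ := LESylow.exists_conj_le_of_le (hYC.trans (le_sup_right : C ≤ M)) hY (P.subtype hPM)
    rw [Sylow.coe_subtype, map_subgroupOf_eq_of_le hPM] at hmle
    have hPn : (P : Subgroup G) ≤ normalizer (C : Set G) := le_normalizer_iff.2 hCn
    rw [← SetLike.mem_coe, coe_mul_of_left_le_normalizer_right _ _ hPn] at hm
    obtain ⟨p, hp, c, hc, rfl⟩ := hm
    refine (eq_of_le_of_card_ge hle ?_).symm
    rw [← card_map_of_injective (K := Y) (f := (MulAut.conj (p * c)).toMonoidHom) (MulAut.conj _).injective]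
    refine card_le_of_le (le_inf hmle ?_)
    rintro _ ⟨y, hy, rfl⟩
    show p * c * y * (p * c)⁻¹ ∈ C
    rw [show p * c * y * (p * c)⁻¹ = p * (c * y * c⁻¹) * p⁻¹ by group]
    exact hCn p hp _ (mul_mem (mul_mem hc (hYC hy)) (inv_mem hc))
  obtain ⟨R, hR⟩ : ∃ R : Sylow 2 C, (R : Subgroup C) = P₁.subgroupOf C := by
    obtain ⟨R, hR⟩ := ((P.isPGroup'.to_le (inf_le_left : P₁ ≤ _)).comap_subtype (K := C)).exists_le_sylow
    refine ⟨R, ?_⟩
    have h1 : (R : Subgroup C).map C.subtype = P₁ := by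
      refine hmax _ (R.2.map _) (map_subtype_le _) ?_
      intro y hy
      exact ⟨⟨y, hy.2⟩, hR hy, rfl⟩
    rw [← h1, subgroupOf, comap_map_eq_self_of_injective C.subtype_injective]
  have hxC : zpowers x ≤ C := fun c hc => (D.centralizer_inter.ge hc).2
  have hclosed : Cfsg.IsStronglyClosed ((zpowers x).subgroupOf C) (R : Subgroup C) := by
    rw [hR]
    refine ⟨fun c hc => ⟨D.le (D.cyc_le hc), c.2⟩, fun c hc k hk => ?_⟩
    exact D.centralizer_inter.le ⟨D.closed.2 _ (D.cyc_le hc) k hk.1, (k * c * k⁻¹).2⟩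
  haveI : IsCyclic ((zpowers x).subgroupOf C) :=
    isCyclic_of_surjective _ (subgroupOfEquivOfLe hxC).symm.surjective
  have hnorm := cyclic_normal ↥C R _ hclosed inferInstance
  set O₁ := (Cfsg.oddCore ↥C).map C.subtype with hO₁
  haveI := FittingCores.pPrimeCore_normal (G := ↥C) 2
  have hOodd : ∀ w ∈ O₁, Odd (orderOf w) := by
    rintro _ ⟨w, hw, rfl⟩
    rw [Subgroup.coe_subtype, Subgroup.orderOf_coe]
    exact SEBrick.odd_order (Nat.coprime_two_right.1 (FittingCores.pPrimeCore_coprime 2)) hw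
  set N := (((zpowers x).subgroupOf C) ⊔ Cfsg.oddCore ↥C).map C.subtype with hN
  -- elements normalising `C` normalise the odd core and fix the cyclic part modulo it
  have hOinv : ∀ k : G, (∀ c ∈ C, k * c * k⁻¹ ∈ C) → ∀ w ∈ O₁, k * w * k⁻¹ ∈ O₁ := by
    intro k hk
    have heq : C.map (MulAut.conj k).toMonoidHom = C := by
      refine eq_of_le_of_card_ge ?_ (by rw [card_map_of_injective (MulAut.conj k).injective])
      rintro _ ⟨c, hc, rfl⟩
      exact hk c hc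
    let φ : C ≃* C := (C.equivMapOfInjective _ (MulAut.conj k).injective).trans (MulEquiv.subgroupCongr heq)
    rintro _ ⟨w, hw, rfl⟩
    refine ⟨φ w, ?_, rfl⟩
    haveI := PBasic.pPrimeCore_characteristic 2 ↥C
    have := Characteristic.fixed (H := Cfsg.oddCore ↥C) (inferInstance) φ
    exact mem_comap.1 (this.ge hw)
  have hgC : ∀ c ∈ C, g * c * g⁻¹ ∈ C := by
    intro c hc
    rw [hC, mem_centralizer_singleton_iff] at hc ⊢
    have hcm : Commute (g * c * g⁻¹) (g * e * g⁻¹) := (show Commute c e from hc).map (MulAut.conj g)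
    rcases D.e_zpowers hg with h | h | h | h
    · exact absurd (conj_eq_one_iff.1 h) fun h1 => D.z1 (by rw [← D.e2, h1, mul_one])
    · exfalso
      refine D.z1 (conj_eq_one_iff.1 (?_ : g * z * g⁻¹ = 1))
      rw [show g * z * g⁻¹ = (g * e * g⁻¹) * (g * e * g⁻¹) by rw [← D.e2]; group, h, D.z2]
    · rw [h] at hcm; exact hcm.eq
    · rw [h] at hcm; simpa using hcm.inv_right.eq
  have key : ∀ k : G, (∀ c ∈ C, k * c * k⁻¹ ∈ C) → (k ∈ C ∨ k ∈ (P : Subgroup G)) →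
      ∃ i : ℤ, ∃ w ∈ O₁, k * x * k⁻¹ = x ^ i * w := by
    intro k _ hkk
    rcases hkk with hk | hk
    · have h := hnorm ⟨k, hk⟩ ⟨x, hxC (mem_zpowers x)⟩ (mem_zpowers x)
      obtain ⟨a, ha, w, hw, he⟩ := mem_sup_of_normal_right.1 h
      obtain ⟨i, hi⟩ := mem_zpowers_iff.1 (mem_subgroupOf.1 ha)
      exact ⟨i, w, ⟨w, hw, rfl⟩, by rw [hi]; exact (congrArg Subtype.val he).symm⟩
    · obtain ⟨i, hi⟩ := mem_zpowers_iff.1 (D.norm k hk)
      exact ⟨i, 1, one_mem _, by rw [mul_one, hi]⟩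
  -- write `g` as an element of `P` times one centralising `e`
  obtain ⟨p, hp, hpg⟩ : ∃ p ∈ (P : Subgroup G), p⁻¹ * g ∈ C := by
    have hcases : g * e * g⁻¹ = e ∨ g * e * g⁻¹ = e⁻¹ := by
      rcases D.e_zpowers hg with h | h | h | h
      · exact absurd (conj_eq_one_iff.1 h) fun h1 => D.z1 (by rw [← D.e2, h1, mul_one])
      · exfalso
        refine D.z1 (conj_eq_one_iff.1 (?_ : g * z * g⁻¹ = 1))
        rw [show g * z * g⁻¹ = (g * e * g⁻¹) * (g * e * g⁻¹) by rw [← D.e2]; group, h, D.z2]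
      · exact Or.inl h
      · exact Or.inr h
    rcases hcases with h | h
    · exact ⟨1, one_mem _, by rw [inv_one, one_mul]; exact mem_centralizer_singleton_iff.2 (mul_inv_eq_iff_eq_mul.1 h)⟩
    · obtain ⟨s, hs, hsx⟩ := D.exists_out
      refine ⟨s, D.le hs, mem_centralizer_singleton_iff.2 (mul_inv_eq_iff_eq_mul.1 ?_)⟩
      calc s⁻¹ * g * e * (s⁻¹ * g)⁻¹ = s⁻¹ * (g * e * g⁻¹) * s := by group
        _ = s⁻¹ * (s * e * s⁻¹) * s := by rw [h, D.inv_of_out hs hsx D.ex]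
        _ = e := by group
  obtain ⟨i, w, hw, hgx⟩ : ∃ i : ℤ, ∃ w ∈ O₁, g * x * g⁻¹ = x ^ i * w := by
    obtain ⟨i, w, hw, hi⟩ := key (p⁻¹ * g) (fun c hc => mul_mem (mul_mem hpg hc) (inv_mem hpg)) (Or.inl hpg)
    obtain ⟨j, hj⟩ := mem_zpowers_iff.1 (D.norm p hp)
    refine ⟨j * i, p * w * p⁻¹, hOinv p (hCn p hp) w hw, ?_⟩
    calc g * x * g⁻¹ = p * ((p⁻¹ * g) * x * (p⁻¹ * g)⁻¹) * p⁻¹ := by group
      _ = (p * x ^ i * p⁻¹) * (p * w * p⁻¹) := by rw [hi]; group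
      _ = x ^ (j * i) * (p * w * p⁻¹) := by
        have h := map_zpow (MulAut.conj p) x i
        simp only [MulAut.conj_apply] at h
        rw [h, ← hj, ← zpow_mul]
  obtain ⟨b, hb⟩ := mem_zpowers_iff.1 (D.norm t ht)
  obtain ⟨c, hc⟩ := mem_zpowers_iff.1 (D.norm _ ht')
  -- modulo the core conjugation by `g` commutes with the powers
  have hxCm : x ∈ C := hxC (mem_zpowers x)
  have hwC : w ∈ C := map_subtype_le _ hw
  let π := QuotientGroup.mk' (Cfsg.oddCore ↥C)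
  have hπO : ∀ (v : G) (hv : v ∈ C), v ∈ O₁ → π ⟨v, hv⟩ = 1 := by
    intro v hv hvO
    obtain ⟨v', hv', e⟩ := hvO
    refine (QuotientGroup.eq_one_iff _).2 ?_
    rwa [show (⟨v, hv⟩ : C) = v' from Subtype.ext e.symm]
  have lhs : g * (x ^ b) * g⁻¹ = g * t * g⁻¹ * (g * x * g⁻¹) * (g * t * g⁻¹)⁻¹ := by rw [hb]; group
  set t' := g * t * g⁻¹ with ht'def
  rw [hgx, show t' * (x ^ i * w) * t'⁻¹ = t' * x ^ i * t'⁻¹ * (t' * w * t'⁻¹) by group] at lhs
  have hti : t' * x ^ i * t'⁻¹ = x ^ (c * i) := by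
    have h := map_zpow (MulAut.conj t') x i
    simp only [MulAut.conj_apply] at h
    rw [h, ← hc, ← zpow_mul]
  have hgb : g * x ^ b * g⁻¹ = (x ^ i * w) ^ b := by
    have h := map_zpow (MulAut.conj g) x b
    simp only [MulAut.conj_apply] at h
    rw [h, hgx]
  have hw' : t' * w * t'⁻¹ ∈ O₁ := hOinv t' (hCn t' ht') w hw
  rw [hgb, hti] at lhs
  have hq : π ⟨x, hxCm⟩ ^ (i * b) = π ⟨x, hxCm⟩ ^ (c * i) := by
    have h1 : (⟨x, hxCm⟩ ^ i * ⟨w, hwC⟩ : C) ^ b = ⟨x, hxCm⟩ ^ (c * i) * ⟨t' * w * t'⁻¹, map_subtype_le _ hw'⟩ :=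
      Subtype.ext (by simpa using lhs)
    have h2 := congrArg π h1
    rw [map_zpow, map_mul, map_mul, map_zpow, map_zpow, hπO w hwC hw, hπO _ _ hw', mul_one, mul_one,
      ← zpow_mul] at h2
    exact h2
  -- `i` is odd
  have hi : Odd i := by
    rw [← Int.not_even_iff_odd]
    rintro ⟨k, rfl⟩
    set o := orderOf (π ⟨x, hxCm⟩) with ho
    have hgx2 : (π ⟨g * x * g⁻¹, hgC x hxCm⟩) = (π ⟨x, hxCm⟩ ^ k) ^ 2 := by
      rw [show (⟨g * x * g⁻¹, hgC x hxCm⟩ : C) = ⟨x, hxCm⟩ ^ (k + k) * ⟨w, hwC⟩ from Subtype.ext (by simpa using hgx),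
        map_mul, map_zpow, hπO w hwC hw, mul_one, pow_two, ← zpow_add]
    obtain ⟨n, hn⟩ := IsPGroup.iff_orderOf.1 P.isPGroup' ⟨x, D.le D.xS⟩
    rw [Subgroup.orderOf_mk] at hn
    have hinj : ∀ (y : G) (hy : y ∈ C), π ⟨y, hy⟩ = 1 → (∃ m, orderOf y = 2 ^ m) → y = 1 := by
      intro y hy hy1 ⟨m, hm⟩
      have h1 := hOodd y ⟨_, (QuotientGroup.eq_one_iff _).1 hy1, rfl⟩
      rw [hm] at h1
      rcases Nat.eq_zero_or_pos m with h0 | h0
      · exact orderOf_eq_one_iff.1 (by rw [hm, h0, pow_zero])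
      · exact absurd (even_iff_two_dvd.2 (dvd_pow_self 2 h0.ne')) (Nat.not_even_iff_odd.2 h1)
    have hn1 : 1 ≤ n := by
      rcases Nat.eq_zero_or_pos n with h0 | h0
      · refine absurd ?_ D.z1
        have hx1 : x = 1 := orderOf_eq_one_iff.1 (by rw [hn, h0, pow_zero])
        have hz := D.zx
        rwa [hx1, zpowers_one_eq_bot, mem_bot] at hz
      · exact h0
    have hz' : (g * x * g⁻¹) ^ 2 ^ (n - 1) ≠ 1 := by
      rw [Ne, ← orderOf_dvd_iff_pow_eq_one, Invol.order_conj, hn, Nat.pow_dvd_pow_iff_le_right (by norm_num)]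
      omega
    refine hz' (hinj _ (pow_mem (hgC x hxCm) _) ?_ ?_)
    · rw [show (⟨(g * x * g⁻¹) ^ 2 ^ (n - 1), pow_mem (hgC x hxCm) _⟩ : C) = ⟨g * x * g⁻¹, hgC x hxCm⟩ ^ 2 ^ (n - 1) from rfl,
        map_pow, hgx2, ← pow_mul, ← pow_succ', Nat.sub_add_cancel hn1, ← zpow_natCast, ← zpow_mul, mul_comm,
        zpow_mul, zpow_natCast]
      rw [show π ⟨x, hxCm⟩ ^ 2 ^ n = 1 by
        rw [← map_pow, show (⟨x, hxCm⟩ : C) ^ 2 ^ n = 1 from Subtype.ext (by simp [← hn, pow_orderOf_eq_one]), map_one],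
        one_zpow]
    · have hmem : (g * x * g⁻¹) ^ 2 ^ (n - 1) ∈ (P : Subgroup G).map (MulAut.conj g).toMonoidHom :=
        pow_mem (mem_map_of_mem (MulAut.conj g).toMonoidHom (D.le D.xS)) _
      refine (IsPGroup.iff_orderOf.1 (P.isPGroup'.map (MulAut.conj g).toMonoidHom) ⟨_, hmem⟩).imp fun m hm => ?_
      rwa [Subgroup.orderOf_mk] at hm
  rw [← hb, ← hc]
  have hodd : ∀ m : ℤ, π ⟨x, hxCm⟩ ^ (m * i) = 1 → x ^ m = 1 := by
    intro m hm
    have hm' : x ^ (m * i) = 1 := by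
      rw [← map_zpow, show π (⟨x, hxCm⟩ ^ (m * i)) = (((⟨x, hxCm⟩ : C) ^ (m * i) : C) : C ⧸ Cfsg.oddCore ↥C) from rfl,
        QuotientGroup.eq_one_iff] at hm
      have hmem : x ^ (m * i) ∈ O₁ := ⟨_, hm, by simp⟩
      obtain ⟨n, hn⟩ := IsPGroup.iff_orderOf.1 P.isPGroup' ⟨x ^ (m * i), zpow_mem (D.le D.xS) _⟩
      rw [Subgroup.orderOf_mk] at hn
      have h1 := hOodd _ hmem
      rw [hn] at h1
      rcases Nat.eq_zero_or_pos n with h0 | h0
      · exact orderOf_eq_one_iff.1 (by rw [hn, h0, pow_zero])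
      · exact absurd (even_iff_two_dvd.2 (dvd_pow_self 2 h0.ne')) (Nat.not_even_iff_odd.2 h1)
    obtain ⟨n, hn⟩ := IsPGroup.iff_orderOf.1 P.isPGroup' ⟨x, D.le D.xS⟩
    rw [Subgroup.orderOf_mk] at hn
    rw [← orderOf_dvd_iff_zpow_eq_one] at hm' ⊢
    rw [hn] at hm' ⊢
    push_cast at hm' ⊢
    refine IsCoprime.dvd_of_dvd_mul_right ?_ hm'
    obtain ⟨j, rfl⟩ := hi
    exact (IsCoprime.pow_left ⟨-j, 1, by ring⟩)
  have hfin : π ⟨x, hxCm⟩ ^ ((c - b) * i) = 1 := by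
    rw [sub_mul, zpow_sub, mul_comm b i, ← hq, mul_inv_cancel]
  have := hodd _ hfin
  rwa [zpow_sub, mul_inv_eq_one] at this

end Quat

end Cfsg.Agent.ClosedLocal
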