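import Cfsg.Agent.Lib.ClosedLocal.QuatFusion
import Cfsg.Agent.Lib.CommPair.Main
import Cfsg.Agent.Lib.BrauerSuzuki.Basic
import Cfsg.Agent.Lib.AbPPrime.Core
import Cfsg.Agent.Lib.Transfer.Fusion
import Mathlib.GroupTheory.Focal

/-!
A strongly closed quaternion subgroup whose normal closure is the whole group, with trivial odd core, is a
Sylow subgroup.
-/

set_option autoImplicit false
set_option linter.style.haveILetI false
set_option linter.unusedSectionVars false

namespace Cfsg.Agent.ClosedLocal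

open Subgroup
open scoped commutatorElement

universe u

variable {G : Type u} [Group G] [Finite G] {P : Sylow 2 G} {S : Subgroup G}

/-- The data of a strongly closed subgroup with one involution, central in the group, not cyclic. -/
theorem exists_quat (hcl : Cfsg.IsStronglyClosed S (P : Subgroup G)) {z : G} (hzS : z ∈ S)
    (hz : orderOf z = 2) (huniq : ∀ w ∈ S, orderOf w = 2 → w = z) (hzc : ∀ g : G, g * z = z * g)
    (hnc : ¬ IsCyclic S) : ∃ x e : G, Quat P S x e z := by
  classical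
  haveI : Fact (Nat.Prime 2) := ⟨Nat.prime_two⟩
  have hz2 : z * z = 1 := Invol.mul_self hz
  have hinv : ∀ w ∈ S, w * w = 1 → w = 1 ∨ w = z := fun w hw h =>
    or_iff_not_imp_left.2 fun h1 => huniq w hw (orderOf_eq_prime (by rw [pow_two, h]) h1)
  have hR : BrauerSuzuki.RankOne S := fun a b ha hb _ => Subtype.ext
    ((huniq a a.2 (by rw [Subgroup.orderOf_coe, ha])).trans (huniq b b.2 (by rw [Subgroup.orderOf_coe, hb])).symm)
  obtain ⟨T⟩ := (inferInstance : Nonempty (Sylow 2 S))
  have hTtop : (T : Subgroup S) = ⊤ :=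
    (T.is_maximal' ((P.isPGroup'.to_le hcl.1).to_subgroup ⊤) le_top).symm
  rcases BrauerSuzuki.exists_data hR T with hc | ⟨d, hd⟩
  · haveI := hc
    rw [hTtop] at hc
    exact absurd (isCyclic_of_surjective (topEquiv (G := S)).toMonoidHom (topEquiv (G := S)).surjective) hnc
  have hmemT : ∀ s : S, s ∈ (d.S : Subgroup S) := fun s => by rw [hd, hTtop]; exact mem_top s
  have hcardS : Nat.card S = 8 * d.k := by
    rw [← d.card_S, hd, hTtop, Nat.card_congr (topEquiv (G := S)).toEquiv]
  -- elements of `S` outside the centre square to `z` when the order is eight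
  set a : G := (d.a : G) with ha
  have hao : orderOf a = 4 * d.k := by rw [ha, Subgroup.orderOf_coe, d.order_a]
  have ha2 : a ^ (2 * d.k) = z := by
    refine huniq _ (pow_mem d.a.2 _) ?_
    rw [orderOf_pow_of_dvd (by have := d.k_pos; omega) (by rw [hao]; exact ⟨2, by ring⟩), hao,
      show 4 * d.k = 2 * (2 * d.k) by ring, Nat.mul_div_cancel _ (by have := d.k_pos; omega)]
  have haout : ∀ s ∈ S, s ∉ zpowers a → s * s = z := by
    intro s hs hsa
    have h := (d.out ⟨s, hs⟩ (hmemT _) fun h => hsa (by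
      obtain ⟨i, hi⟩ := mem_zpowers_iff.1 h
      exact ⟨i, by simpa [ha] using congrArg Subtype.val hi⟩)).1
    rw [← ha2, ha]
    simpa using congrArg Subtype.val h
  -- a generator of a cyclic subgroup of index two normalised by `P`
  obtain ⟨x, hxS, hxo, hxout, hxn⟩ : ∃ x ∈ S, orderOf x = 4 * d.k ∧
      (∀ s ∈ S, s ∉ zpowers x → s * s = z) ∧ ∀ t ∈ (P : Subgroup G), t * x * t⁻¹ ∈ zpowers x := by
    have hconj : ∀ t ∈ (P : Subgroup G), ∀ s ∈ S, t * s * t⁻¹ ∈ S := fun t ht s hs =>
      hcl.2 s hs t (mul_mem (mul_mem ht (hcl.1 hs)) (inv_mem ht))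
    rcases Nat.lt_or_ge d.k 2 with hk | hk
    swap
    · refine ⟨a, d.a.2, hao, haout, fun t ht => ?_⟩
      by_contra h
      have h1 := haout _ (hconj t ht a d.a.2) h
      have h2 : (t * a * t⁻¹) ^ 4 = 1 := by
        rw [show 4 = 2 + 2 from rfl, pow_add, pow_two, h1, hz2]
      have h3 := orderOf_dvd_of_pow_eq_one h2
      rw [Invol.order_conj, hao] at h3
      have := Nat.le_of_dvd (by norm_num) h3
      omega
    have hk1 : d.k = 1 := by have := d.k_pos; omega
    haveI hZn : (zpowers z).Normal := ⟨fun b hb g => by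
      obtain ⟨i, rfl⟩ := mem_zpowers_iff.1 hb
      rw [((show Commute g z from hzc g).zpow_right i).eq, mul_inv_cancel_right]
      exact hb⟩
    set π := QuotientGroup.mk' (zpowers z) with hπ
    set Pb := (P : Subgroup G).map π with hPb
    set N : Subgroup Pb := (S.map π).subgroupOf Pb with hN
    haveI : N.Normal := ⟨fun b hb g => by
      obtain ⟨s, hs, hse⟩ := mem_subgroupOf.1 hb
      obtain ⟨t, ht, hte⟩ := g.2
      refine mem_subgroupOf.2 ⟨t * s * t⁻¹, hconj t ht s hs, ?_⟩
      rw [map_mul, map_mul, map_inv, hte, hse]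
      rfl⟩
    have hNne : N ≠ ⊥ := by
      intro h
      rw [hN, subgroupOf_eq_bot, disjoint_iff, inf_eq_left.2 (map_mono hcl.1), Subgroup.map_eq_bot_iff,
        hπ, QuotientGroup.ker_mk'] at h
      have := (Subgroup.card_le_of_le h).trans (le_of_eq (by rw [Nat.card_zpowers, hz]))
      omega
    obtain ⟨⟨y, hy⟩, hy1⟩ := Subgroup.ne_bot_iff_exists_ne_one.1
      (AbPPrime.inf_center_ne_bot (P.isPGroup'.map π) hNne)
    obtain ⟨hyN, hyc⟩ := mem_inf.1 hy
    obtain ⟨c, hc, hce⟩ := mem_subgroupOf.1 hyN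
    have hcz : c ∉ zpowers z := by
      intro h
      refine hy1 (Subtype.ext (Subtype.ext ?_))
      show (y : G ⧸ zpowers z) = 1
      rw [← hce]
      exact (QuotientGroup.eq_one_iff c).2 h
    have hsq : ∀ s ∈ S, s ∉ zpowers z → s * s = z := by
      intro s hs hsz
      by_cases hsa : s ∈ zpowers a
      swap
      · exact haout s hs hsa
      obtain ⟨i, rfl⟩ := mem_zpowers_iff.1 hsa
      have ha2' : a ^ (2 : ℤ) = z := by rw [← ha2, hk1]; norm_cast
      rcases Int.even_or_odd i with ⟨j, hj⟩ | ⟨j, hj⟩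
      · exact absurd ⟨j, show z ^ j = a ^ i by rw [← ha2', ← zpow_mul, hj]; ring_nf⟩ hsz
      · have h4 : a ^ (4 : ℤ) = 1 := by
          rw [show (4 : ℤ) = 2 + 2 from rfl, zpow_add, ha2', hz2]
        rw [← zpow_add, hj, show 2 * j + 1 + (2 * j + 1) = 4 * j + 2 by ring, zpow_add, zpow_mul, h4,
          one_zpow, one_mul, ha2']
    have hc2 := hsq c hc hcz
    have hco : orderOf c = 4 * d.k := by
      rw [hk1]
      exact orderOf_eq_prime_pow (p := 2) (n := 1)
        (by rw [pow_one, pow_two, hc2]; exact Invol.ne_one hz)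
        (by rw [show 2 ^ (1 + 1) = 2 + 2 from rfl, pow_add, pow_two, hc2, hz2])
    refine ⟨c, hc, hco, fun s hs hsc => hsq s hs fun h => hsc ?_, fun t ht => ?_⟩
    · exact zpowers_le.2 (hc2 ▸ mul_mem (mem_zpowers c) (mem_zpowers c)) h
    · have h1 : π t * π c = π c * π t := by
        rw [hce]
        exact congrArg Subtype.val (mem_center_iff.1 hyc ⟨π t, ⟨t, ht, rfl⟩⟩)
      have h2 : c⁻¹ * (t * c * t⁻¹) ∈ zpowers z := by
        rw [← QuotientGroup.ker_mk' (zpowers z), MonoidHom.mem_ker, map_mul, map_inv, map_mul, map_mul,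
          map_inv, h1, mul_inv_cancel_right, inv_mul_cancel]
      have h3 := mul_mem (mem_zpowers c) (zpowers_le.2 (hc2 ▸ mul_mem (mem_zpowers c) (mem_zpowers c)) h2)
      rwa [mul_inv_cancel_left] at h3
  -- the index is two
  set C : Subgroup S := (zpowers x).subgroupOf S with hC
  have hidx : C.index = 2 := by
    have h := C.card_mul_index
    rw [hC, Nat.card_congr (subgroupOfEquivOfLe (zpowers_le.2 hxS)).toEquiv, Nat.card_zpowers, hxo, hcardS] at h
    have := d.k_pos
    exact Nat.eq_of_mul_eq_mul_left (by omega : 0 < 4 * d.k) (h.trans (by ring))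
  have hsplit : ∀ s ∈ S, ∀ t ∈ S, s ∉ zpowers x → t ∉ zpowers x → s⁻¹ * t ∈ zpowers x := by
    intro s hs t ht hsx htx
    have h := (mul_mem_iff_of_index_two hidx (a := (⟨s, hs⟩ : S)⁻¹) (b := ⟨t, ht⟩)).2
      ⟨fun h => absurd (inv_mem_iff.1 h) hsx, fun h => absurd h htx⟩
    exact h
  obtain ⟨w, hw⟩ : ∃ w : S, w ∉ C := by
    by_contra h
    rw [not_exists] at h
    have : C = ⊤ := (eq_top_iff' C).2 fun y => not_not.1 (h y)
    rw [this, index_top] at hidx
    omega
  have hx2 : x ^ (2 * d.k) = z := by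
    refine huniq _ (pow_mem hxS _) ?_
    rw [orderOf_pow_of_dvd (by have := d.k_pos; omega) (by rw [hxo]; exact ⟨2, by ring⟩), hxo,
      show 4 * d.k = 2 * (2 * d.k) by ring, Nat.mul_div_cancel _ (by have := d.k_pos; omega)]
  refine ⟨x, x ^ d.k, hcl, hxS, pow_mem (mem_zpowers x) _, by rw [← pow_add, ← two_mul, hx2],
    Invol.ne_one hz, hz2, hinv, fun s hs hsx => ⟨hxout s hs hsx, ?_⟩, hsplit, ⟨w, w.2, hw⟩, hxn⟩
  have h1 := hxout s hs hsx
  have h2 := hxout (s * x) (mul_mem hs hxS) fun h => hsx (by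
    simpa using mul_mem h (inv_mem (mem_zpowers x)))
  have h3 : s * (x * s * x) = s * s := by rw [h1, ← h2]; group
  calc s * x * s⁻¹ = x⁻¹ * (x * s * x) * s⁻¹ := by group
    _ = x⁻¹ := by rw [mul_left_cancel h3]; group

/-- A strongly closed quaternion subgroup generating the group normally, with central involution and trivial
odd core, is the Sylow subgroup. -/
theorem quat_full (hPair : CommPair.Stmt.{u}) {x e z : G} (D : Quat P S x e z)
    (hzc : ∀ g : G, g * z = z * g) (hncl : normalClosure (S : Set G) = ⊤) (hO : Cfsg.oddCore G = ⊥) :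
    (P : Subgroup G) ≤ S := by
  haveI : Fact (Nat.Prime 2) := ⟨Nat.prime_two⟩
  set R := cenP P S with hRdef
  have hRP : R ≤ (P : Subgroup G) := inf_le_left
  -- the group is `G' S`
  haveI : (S ⊔ _root_.commutator G).Normal := ⟨fun a ha g => by
    have h : g * a * g⁻¹ * a⁻¹ ∈ S ⊔ _root_.commutator G := by
      refine mem_sup_right ?_
      rw [_root_.commutator_def, ← commutatorElement_def]
      exact commutator_mem_commutator (mem_top g) (mem_top a)
    simpa using mul_mem h ha⟩
  have htop : S ⊔ _root_.commutator G = ⊤ :=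
    top_le_iff.1 (hncl ▸ normalClosure_le_normal (le_sup_left : S ≤ S ⊔ _root_.commutator G))
  have hPle : ∀ p ∈ (P : Subgroup G), p ∈ ((P : Subgroup G).focalSubgroup ⊔ S) := by
    intro p hp
    rw [← commutator_inf_eq_focalSubgroup]
    have h : p ∈ S ⊔ _root_.commutator G := htop ▸ mem_top p
    obtain ⟨s, hs, c, hc, rfl⟩ := mem_sup_of_normal_right.1 h
    have hcP : c ∈ (P : Subgroup G) := by
      have := mul_mem (inv_mem (D.le hs)) hp
      rwa [inv_mul_cancel_left] at this
    exact mul_mem (mem_sup_right hs) (mem_sup_left ⟨hc, hcP⟩)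
  -- the Sylow subgroup is `S R`
  have hfoc : (P : Subgroup G).focalSubgroup ≤ span3 P S := by
    rw [focalSubgroup]
    refine (closure_le _).2 ?_
    rintro _ ⟨hg, p, hp, v, rfl⟩
    have hvp : v * p⁻¹ * v⁻¹ ∈ (P : Subgroup G) := by
      have := mul_mem (inv_mem hp) hg
      rwa [show p⁻¹ * ⁅p, v⁆ = v * p⁻¹ * v⁻¹ by rw [commutatorElement_def]; group] at this
    have h := (D.rel_of_conj (inv_mem hp) hvp).2
    rwa [show p⁻¹⁻¹ * (v * p⁻¹ * v⁻¹) = ⁅p, v⁆ by rw [commutatorElement_def]; group] at h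
  have hRn : ∀ t ∈ (P : Subgroup G), ∀ r ∈ R, t * r * t⁻¹ ∈ R := fun t ht r hr =>
    (D.conj_P_mem ht (hRP hr)).1.1 hr
  have hSR : (P : Subgroup G) ≤ S ⊔ R := by
    refine Fusion.le_of_le_commutator_sup P.isPGroup'.isNilpotent le_rfl (sup_le D.le hRP)
      (le_normalizer_iff.2 fun t ht y hy => ?_) fun p hp => ?_
    · have hle : S ⊔ R ≤ (S ⊔ R).comap (MulAut.conj t).toMonoidHom :=
        sup_le (fun s hs => mem_sup_left (D.conj_mem ht hs)) (fun r hr => mem_sup_right (hRn t ht r hr))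
      exact hle hy
    · have h := hPle p hp
      have h3 : (P : Subgroup G).focalSubgroup ⊔ S ≤ ⁅(P : Subgroup G), (P : Subgroup G)⁆ ⊔ (S ⊔ R) :=
        sup_le (hfoc.trans (sup_le (le_sup_of_le_right le_rfl) le_sup_left)) (le_sup_of_le_right le_sup_left)
      exact h3 h
  have hRcl : Cfsg.IsStronglyClosed R (P : Subgroup G) :=
    ⟨hRP, fun r hr g hg => (D.rel_of_conj (hRP hr) hg).1.1 hr⟩
  have hSR1 : ∀ s ∈ S, s ∈ R → s ∈ zpowers z := by
    intro s hs hsR
    by_cases hsx : s ∈ zpowers x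
    · obtain ⟨w, hwS, hwx⟩ := D.exists_out
      have h1 := D.inv_of_out hwS hwx hsx
      rw [mem_centralizer_iff.1 hsR.2 w hwS, mul_inv_cancel_right] at h1
      rcases D.inv s hs (by nth_rewrite 2 [h1]; exact mul_inv_cancel s) with h | h <;> rw [h]
      · exact one_mem _
      · exact mem_zpowers z
    · refine absurd ?_ (D.out_e hs hsx)
      rw [← mem_centralizer_iff.1 hsR.2 e D.eS, mul_inv_cancel_right]
  -- modulo the involution
  set Z := zpowers z with hZdef
  have hZc : Z ≤ center G := zpowers_le.2 (mem_center_iff.2 hzc)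
  haveI hZn : Z.Normal := ⟨fun b hb g => by
    rw [mem_center_iff.1 (hZc hb) g, mul_inv_cancel_right]
    exact hb⟩
  have hZP : Z ≤ (P : Subgroup G) := zpowers_le.2 (D.le D.zS)
  have hcore : Cfsg.oddCore (G ⧸ Z) = ⊥ :=
    CentralInter.oddCore_quotient_central hO Z (P.isPGroup'.to_le hZP) hZc
  set π := QuotientGroup.mk' Z with hπ
  have hsurj : Function.Surjective π := QuotientGroup.mk'_surjective Z
  have hker : π.ker ≤ (P : Subgroup G) ⊔ ⊥ := by
    rw [hπ, QuotientGroup.ker_mk', sup_bot_eq]; exact hZP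
  have hpair : CommPair.Pair (P.mapSurjective hsurj) (S.map π) (R.map π) := by
    refine ⟨closed_map D.closed π hsurj ⊥ bot_le hker, closed_map hRcl π hsurj ⊥ bot_le hker, ?_, ?_⟩
    · rintro _ ⟨s, hs, rfl⟩ _ ⟨r, hr, rfl⟩
      exact Commute.map (mem_centralizer_iff.1 hr.2 s hs) π
    · rw [eq_bot_iff]
      rintro _ ⟨⟨s, hs, rfl⟩, r, hr, hre⟩
      have hk : r⁻¹ * s ∈ Z := by
        rw [← QuotientGroup.ker_mk' Z, MonoidHom.mem_ker, map_mul, map_inv, ← hπ, hre, inv_mul_cancel]
      have hzR : Z ≤ R := zpowers_le.2 ⟨D.le D.zS, mem_centralizer_iff.2 fun y _ => hzc y⟩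
      have hsR : s ∈ R := by
        have := mul_mem hr (hzR hk)
        rwa [mul_inv_cancel_left] at this
      exact mem_bot.2 ((QuotientGroup.eq_one_iff s).2 (hSR1 s hs hsR))
  -- so `R` is central
  have hRc : ∀ r ∈ R, ∀ g : G, g * r = r * g := by
    intro r hr
    have h1 : ∀ v s : G, s ∈ S → π ⁅v * s * v⁻¹, r⁆ = 1 := by
      intro v s hs
      have h := hPair _ (P.mapSurjective hsurj) (S.map π) (R.map π) hpair (π (v * s * v⁻¹)) (π r)
        ⟨π v⁻¹, by
          rw [← map_inv, ← map_mul, ← map_mul]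
          exact ⟨s, hs, congrArg π (by group)⟩⟩
        (SylowSplit.InR.of_mem ⟨r, hr, rfl⟩)
      rw [hcore, mem_bot] at h
      rw [map_commutatorElement, h]
    -- centralising modulo the involution
    have hcenq : ∀ g : G, Commute (π g) (π r) := by
      have hle : normalClosure (S : Set G) ≤ (centralizer ({π r} : Set (G ⧸ Z))).comap π := by
        rw [normalClosure]
        refine (closure_le _).2 ?_
        intro y hy
        obtain ⟨s, hs, hsy⟩ := Group.mem_conjugatesOfSet_iff.1 hy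
        obtain ⟨v, hv⟩ := isConj_iff.1 hsy
        rw [SetLike.mem_coe, mem_comap, mem_centralizer_singleton_iff, ← hv]
        exact commutatorElement_eq_one_iff_commute.1 (by rw [← map_commutatorElement, h1 v s hs])
      intro g
      exact mem_centralizer_singleton_iff.1 (hle (hncl ▸ mem_top g))
    set C := centralizer ({r} : Set G) with hC
    haveI : C.Normal := ⟨fun c hc v => by
      rw [hC, mem_centralizer_singleton_iff] at hc ⊢
      obtain ⟨d, hd, hde⟩ : ∃ d ∈ center G, v⁻¹ * r * v = r * d := by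
        refine ⟨r⁻¹ * (v⁻¹ * r * v), hZc ?_, by group⟩
        rw [← QuotientGroup.ker_mk' Z, MonoidHom.mem_ker, map_mul, map_inv, map_mul, map_mul, map_inv,
          ← hπ, mul_assoc (π v)⁻¹, ← (hcenq v).eq, inv_mul_cancel_left, inv_mul_cancel]
      calc v * c * v⁻¹ * r = v * (c * (v⁻¹ * r * v)) * v⁻¹ := by group
        _ = v * (r * (c * d)) * v⁻¹ := by rw [hde, ← mul_assoc c, hc, mul_assoc r c d]
        _ = v * ((v⁻¹ * r * v) * c) * v⁻¹ := by rw [hde, mul_assoc r d, ← mem_center_iff.1 hd c]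
        _ = r * (v * c * v⁻¹) := by group⟩
    have hSC : S ≤ C := fun s hs => by
      rw [hC, mem_centralizer_singleton_iff]
      exact mem_centralizer_iff.1 hr.2 s hs
    intro g
    have hg : g ∈ C := normalClosure_le_normal hSC (hncl ▸ mem_top g)
    rw [hC, mem_centralizer_singleton_iff] at hg
    exact hg
  -- and the focal subgroup lies in `S`
  intro p hp
  refine (sup_le ?_ le_rfl : (P : Subgroup G).focalSubgroup ⊔ S ≤ S) (hPle p hp)
  rw [focalSubgroup]
  refine (closure_le _).2 ?_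
  rintro _ ⟨hg, q, hq, v, rfl⟩
  have hsup : q ∈ ((S ⊔ R : Subgroup G) : Set G) := hSR hq
  rw [coe_mul_of_left_le_normalizer_right] at hsup
  swap
  · exact fun s hs => centralizer_le_normalizer _ (mem_centralizer_iff.2 fun y hy => hRc y hy s ▸ rfl)
  obtain ⟨s, hs, r, hr, rfl⟩ := hsup
  have hvr : v * r⁻¹ * v⁻¹ = r⁻¹ := mul_inv_eq_iff_eq_mul.2 (hRc _ (inv_mem hr) v)
  have heq : ⁅s * r, v⁆ = s * (v * s⁻¹ * v⁻¹) := by
    rw [commutatorElement_def]
    calc s * r * v * (s * r)⁻¹ * v⁻¹ = s * r * (v * r⁻¹ * v⁻¹) * (v * s⁻¹ * v⁻¹) := by group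
      _ = s * (v * s⁻¹ * v⁻¹) := by rw [hvr]; group
  show ⁅s * r, v⁆ ∈ S
  rw [heq]
  refine mul_mem hs (D.closed.2 _ (inv_mem hs) v ?_)
  have h := mul_mem (inv_mem (D.le hs)) (show ⁅s * r, v⁆ ∈ (P : Subgroup G) from hg)
  rwa [heq, inv_mul_cancel_left] at h

end Cfsg.Agent.ClosedLocal
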