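import Cfsg.Agent.Lib.ClosedLocal.QuatBasic
import Cfsg.Agent.Lib.Fusion.Alperin
import Cfsg.Agent.Lib.Fusion.Group

/-!
Fusion in a group with a strongly closed quaternion subgroup `S`: the centraliser of `S` in the Sylow
subgroup is invariant under fusion, and the focal subgroup lies in `S C_P(S) P'`.
-/

set_option autoImplicit false
set_option linter.style.haveILetI false
set_option linter.unusedSectionVars false

namespace Cfsg.Agent.ClosedLocal

open Subgroup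
open Cfsg (groupFusionSystem)

universe u

variable {G : Type u} [Group G] [Finite G]

/-- The centraliser of `S` in the Sylow subgroup. -/
def cenP (P : Sylow 2 G) (S : Subgroup G) : Subgroup G := (P : Subgroup G) ⊓ centralizer (S : Set G)

/-- The subgroup which will be shown to be everything. -/
def span3 (P : Sylow 2 G) (S : Subgroup G) : Subgroup G :=
  S ⊔ cenP P S ⊔ ⁅(P : Subgroup G), (P : Subgroup G)⁆

/-- The relation preserved by fusion. -/
def Rel (P : Sylow 2 G) (S : Subgroup G) (a b : G) : Prop :=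
  (a ∈ cenP P S ↔ b ∈ cenP P S) ∧ a⁻¹ * b ∈ span3 P S

theorem Rel.symm {P : Sylow 2 G} {S : Subgroup G} {a b : G} (h : Rel P S a b) : Rel P S b a :=
  ⟨h.1.symm, by simpa using inv_mem h.2⟩

theorem Rel.trans {P : Sylow 2 G} {S : Subgroup G} {a b c : G} (h : Rel P S a b) (h' : Rel P S b c) :
    Rel P S a c :=
  ⟨h.1.trans h'.1, by simpa [mul_assoc] using mul_mem h.2 h'.2⟩

/-- Conjugation by an element of order prime to nothing but two on a cyclic 2-group. -/
theorem pow_two_centralizes {C : Subgroup G} (hC : IsCyclic C) (hp : IsPGroup 2 C) {g : G}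
    (hg : g ∈ normalizer (C : Set G)) : ∃ a : ℕ, ∀ c ∈ C, g ^ 2 ^ a * c * (g ^ 2 ^ a)⁻¹ = c := by
  haveI : Fact (Nat.Prime 2) := ⟨Nat.prime_two⟩
  haveI := hC
  obtain ⟨n, hn⟩ := hp.exists_card_eq
  obtain ⟨a, ha⟩ : ∃ a, Nat.card (MulAut C) = 2 ^ a := by
    rw [IsCyclic.card_mulAut, hn]
    rcases n with _ | m
    · exact ⟨0, by simp⟩
    · exact ⟨m, by rw [Nat.totient_prime_pow Nat.prime_two (Nat.succ_pos m)]; simp⟩
  refine ⟨a, fun c hc => ?_⟩
  have h : ((C.normalizerMonoidHom ⟨g, hg⟩) ^ 2 ^ a) ⟨c, hc⟩ = ⟨c, hc⟩ := by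
    rw [← ha, pow_card_eq_one']
    rfl
  rw [← map_pow] at h
  exact congrArg Subtype.val h

theorem pow_shift {g q v : G} (hq : g * q * g⁻¹ = q * v) (hv : g * v * g⁻¹ = v) :
    ∀ j : ℕ, g ^ j * q * (g ^ j)⁻¹ = q * v ^ j := by
  intro j
  induction j with
  | zero => simp
  | succ j ih =>
    have hvj : g * v ^ j * g⁻¹ = v ^ j := by rw [← conj_pow, hv]
    calc g ^ (j + 1) * q * (g ^ (j + 1))⁻¹ = g * (g ^ j * q * (g ^ j)⁻¹) * g⁻¹ := by rw [pow_succ']; group
      _ = (g * q * g⁻¹) * (g * v ^ j * g⁻¹) := by rw [ih]; group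
      _ = q * v ^ (j + 1) := by rw [hq, hvj, mul_assoc, ← pow_succ']

namespace Quat

variable {P : Sylow 2 G} {S : Subgroup G} {x e z : G} (D : Quat P S x e z)
include D

theorem conj_inter {Q : Subgroup G} (hQP : Q ≤ (P : Subgroup G)) {g : G}
    (hg : g ∈ normalizer (Q : Set G)) {s : G} (hs : s ∈ Q ⊓ S) : g * s * g⁻¹ ∈ Q ⊓ S :=
  have h := (mem_normalizer_iff.1 hg s).1 hs.1
  ⟨h, D.closed.2 s hs.2 g (hQP h)⟩

theorem conj_inter' {Q : Subgroup G} (hQP : Q ≤ (P : Subgroup G)) {g : G}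
    (hg : g ∈ normalizer (Q : Set G)) {s : G} (hs : s ∈ Q ⊓ S) : g⁻¹ * s * g ∈ Q ⊓ S := by
  simpa using D.conj_inter hQP (inv_mem hg) hs

theorem conj_P_mem {t a : G} (ht : t ∈ (P : Subgroup G)) (ha : a ∈ (P : Subgroup G)) :
    Rel P S a (t * a * t⁻¹) := by
  have hR : ∀ {t a : G}, t ∈ (P : Subgroup G) → a ∈ cenP P S → t * a * t⁻¹ ∈ cenP P S := by
    intro t a ht ha
    refine ⟨show _ ∈ (P : Subgroup G) from mul_mem (mul_mem ht ha.1) (inv_mem ht),
      mem_centralizer_iff.2 fun s hs => ?_⟩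
    have h1 := mem_centralizer_iff.1 ha.2 _ (D.conj_mem (inv_mem ht) hs)
    rw [inv_inv] at h1
    calc s * (t * a * t⁻¹) = t * ((t⁻¹ * s * t) * a) * t⁻¹ := by group
      _ = t * (a * (t⁻¹ * s * t)) * t⁻¹ := by rw [h1]
      _ = t * a * t⁻¹ * s := by group
  refine ⟨⟨hR ht, fun h => ?_⟩, mem_sup_right ?_⟩
  · simpa [mul_assoc] using hR (inv_mem ht) h
  · rw [show a⁻¹ * (t * a * t⁻¹) = a⁻¹ * t * (a⁻¹)⁻¹ * t⁻¹ by group]
    exact commutator_mem_commutator (inv_mem ha) ht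

/-- A radical centric subgroup not containing `S` meets it in a subgroup with an odd automorphism. -/
theorem not_good {Q : Subgroup G} (hQP : Q ≤ (P : Subgroup G))
    (hcen : (P : Subgroup G) ⊓ centralizer (Q : Set G) ≤ Q)
    (hrad : (groupFusionSystem (P : Subgroup G)).IsRadical 2 Q)
    (hgood : ∀ g ∈ normalizer (Q : Set G), ∀ c ∈ Q ⊓ zpowers x, g * c * g⁻¹ ∈ zpowers x) :
    S ≤ Q := by
  haveI : Fact (Nat.Prime 2) := ⟨Nat.prime_two⟩
  by_contra hSQ
  set F := groupFusionSystem (P : Subgroup G) with hF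
  -- an element of `S` normalising `Q`
  have hSn : Q ≤ normalizer (S : Set G) := le_normalizer_iff.2 fun t ht s hs => D.conj_mem (hQP ht) hs
  have hlt : Q < Q ⊔ S := lt_of_le_of_ne le_sup_left fun h => hSQ (h ▸ le_sup_right)
  obtain ⟨v, hv, hvQ⟩ := SetLike.exists_of_lt
    (Fusion.lt_inf_normalizer ((P.isPGroup'.to_le (sup_le hQP D.le)).isNilpotent) hlt)
  obtain ⟨hvQS, hvN⟩ := hv
  have hvQS' : v ∈ ((Q ⊔ S : Subgroup G) : Set G) := hvQS
  rw [coe_mul_of_left_le_normalizer_right _ _ hSn] at hvQS'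
  obtain ⟨q₀, hq₀, u, hu, rfl⟩ := hvQS'
  have huQ : u ∉ Q := fun h => hvQ (mul_mem hq₀ h)
  have huN : u ∈ normalizer (Q : Set G) := by
    have := mul_mem (inv_mem (le_normalizer (H := Q) hq₀)) hvN
    simpa using this
  -- the stabiliser of the series `1 ≤ Q ⊓ S ≤ Q`
  set A := F.autGroup Q with hA
  have hAmem : ∀ α : MulAut Q, α ∈ A → ∃ g ∈ normalizer (Q : Set G), ∀ q : Q, ((α q : Q) : G) = g * q * g⁻¹ := by
    intro α hα
    rw [hA, hF, FusionSys.group_autGroup P hQP, FusionSys.mem_autInducedBy_iff] at hα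
    obtain ⟨g, -, he⟩ := hα
    exact ⟨g, FusionSys.mem_normalizer_of_autInduced he, he⟩
  let K : Subgroup A :=
    { carrier := {α | ∀ q : Q, (q : G)⁻¹ * (((α : MulAut Q) q : Q) : G) ∈ S}
      one_mem' := fun q => by simp
      mul_mem' := fun {α β} ha hb q => by
        have h1 := ha ((β : MulAut Q) q)
        have h2 := mul_mem (hb q) h1
        simpa [mul_assoc] using h2
      inv_mem' := fun {α} ha q => by
        have h1 := inv_mem (ha ((α : MulAut Q)⁻¹ q))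
        simpa using h1 }
  haveI hKn : K.Normal := ⟨fun α ha β q => by
    obtain ⟨g, hg, he⟩ := hAmem _ β.2
    set r := (β : MulAut Q)⁻¹ q with hr
    have hqr : q = (β : MulAut Q) r := by simp [hr]
    have h1 := ha r
    show (q : G)⁻¹ * (((β : MulAut Q) ((α : MulAut Q) r) : Q) : G) ∈ S
    rw [hqr, he, he]
    have h2 : (r : G)⁻¹ * (((α : MulAut Q) r : Q) : G) ∈ Q ⊓ S :=
      ⟨show _ ∈ Q from mul_mem (inv_mem r.2) ((α : MulAut Q) r).2, h1⟩
    rw [show (g * (r : G) * g⁻¹)⁻¹ * (g * (((α : MulAut Q) r : Q) : G) * g⁻¹) =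
      g * ((r : G)⁻¹ * (((α : MulAut Q) r : Q) : G)) * g⁻¹ by group]
    exact (D.conj_inter hQP hg h2).2⟩
  have hKp : IsPGroup 2 K := by
    rintro ⟨α, hα⟩
    obtain ⟨g, hg, he⟩ := hAmem _ α.2
    -- a power centralises the cyclic part
    set C := Q ⊓ zpowers x with hC
    haveI : IsCyclic C := isCyclic_of_injective (inclusion (inf_le_right : C ≤ zpowers x)) (inclusion_injective _)
    have hCp : IsPGroup 2 C := P.isPGroup'.to_le (inf_le_left.trans hQP)
    have hgC : g ∈ normalizer (C : Set G) := by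
      refine mem_normalizer_iff.2 fun c => ⟨fun hc => ⟨(mem_normalizer_iff.1 hg c).1 hc.1, hgood g hg c hc⟩, fun hc => ?_⟩
      refine ⟨(mem_normalizer_iff.1 hg c).2 hc.1, ?_⟩
      have := hgood g⁻¹ (inv_mem hg) _ hc
      simpa [mul_assoc] using this
    obtain ⟨a, ha⟩ := pow_two_centralizes inferInstance hCp hgC
    set h := g ^ 2 ^ a with hh
    have hhN : h ∈ normalizer (Q : Set G) := pow_mem hg _
    obtain ⟨b, hb⟩ : ∃ b : ℕ, ∀ s ∈ Q ⊓ S, h ^ 2 ^ b * s * (h ^ 2 ^ b)⁻¹ = s := by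
      obtain ⟨b, hb⟩ := hCp.exists_card_eq
      refine ⟨b, fun s hs => ?_⟩
      have hpow : ∀ c ∈ C, c ^ 2 ^ b = 1 := fun c hc => by
        rw [← hb]
        exact orderOf_dvd_iff_pow_eq_one.1 (orderOf_dvd_natCard C hc)
      by_cases hsx : s ∈ zpowers x
      · have hfix : ∀ j : ℕ, h ^ j * s * (h ^ j)⁻¹ = s * 1 ^ j :=
          pow_shift (by rw [mul_one]; exact ha s ⟨hs.1, hsx⟩) (by simp)
        simpa using hfix (2 ^ b)
      · set d := s⁻¹ * (h * s * h⁻¹) with hd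
        have hs' := D.conj_inter hQP hhN hs
        have hdC : d ∈ C := by
          refine ⟨show _ ∈ Q from mul_mem (inv_mem hs.1) hs'.1, D.split s hs.2 _ hs'.2 hsx fun hx' => hsx ?_⟩
          have := hgood h⁻¹ (inv_mem hhN) _ ⟨hs'.1, hx'⟩
          simpa [mul_assoc] using this
        rw [pow_shift (q := s) (v := d) (by rw [hd]; group) (ha d hdC), hpow d hdC, mul_one]
    set k := h ^ 2 ^ b with hk
    obtain ⟨c, hc⟩ := (P.isPGroup'.to_le (inf_le_left.trans hQP : Q ⊓ S ≤ _)).exists_card_eq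
    refine ⟨a + b + c, Subtype.ext (Subtype.ext (MulEquiv.ext fun q => Subtype.ext ?_))⟩
    have hpw : ∀ (n : ℕ) (q : Q), ((((α : MulAut Q) ^ n) q : Q) : G) = g ^ n * q * (g ^ n)⁻¹ := by
      intro n
      induction n with
      | zero => intro q; simp
      | succ n ih =>
        intro q
        rw [pow_succ', MulAut.mul_apply, he, ih, pow_succ']
        group
    show ((((α : MulAut Q) ^ 2 ^ (a + b + c)) q : Q) : G) = q
    rw [hpw]
    have hgk : g ^ 2 ^ (a + b) = k := by rw [hk, hh, ← pow_mul, pow_add]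
    set d := (q : G)⁻¹ * (k * q * k⁻¹) with hd
    have hdS : d ∈ Q ⊓ S := by
      have hkq : k * q * k⁻¹ = ((((α : MulAut Q) ^ 2 ^ (a + b)) q : Q) : G) := by rw [hpw, hgk]
      refine ⟨show _ ∈ Q from mul_mem (inv_mem q.2) (by rw [hkq]; exact SetLike.coe_mem _), ?_⟩
      rw [hd, hkq]
      exact (K.pow_mem hα (2 ^ (a + b)) : _) q
    rw [pow_add, pow_mul, hgk, pow_shift (q := (q : G)) (v := d) (by rw [hd]; group) (hb d hdS), ← hc,
      orderOf_dvd_iff_pow_eq_one.1 (orderOf_dvd_natCard (Q ⊓ S) hdS), mul_one]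
  -- the element of `S` is inner
  set αu : MulAut Q := Q.normalizerMonoidHom ⟨u, huN⟩ with hαu
  have hαA : αu ∈ A := by
    rw [hA, hF, FusionSys.group_autGroup P hQP, FusionSys.mem_autInducedBy_iff]
    exact ⟨u, mem_top u, fun _ => rfl⟩
  have hαK : (⟨αu, hαA⟩ : A) ∈ K := fun q => by
    show (q : G)⁻¹ * (u * q * u⁻¹) ∈ S
    rw [show (q : G)⁻¹ * (u * q * u⁻¹) = ((q : G)⁻¹ * u * q) * u⁻¹ by group]
    refine mul_mem ?_ (inv_mem hu)
    simpa using D.conj_mem (inv_mem (hQP q.2)) hu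
  have hinn : αu ∈ Inn Q := hrad.2.le ⟨_, PBasic.le_pCore hKn hKp hαK, rfl⟩
  rw [FusionSys.inn_eq_autInducedBy_self, FusionSys.mem_autInducedBy_iff] at hinn
  obtain ⟨q₁, hq₁, he⟩ := hinn
  refine huQ ?_
  have hcent : q₁⁻¹ * u ∈ Q := hcen ⟨show _ ∈ (P : Subgroup G) from mul_mem (inv_mem (hQP hq₁)) (D.le hu), mem_centralizer_iff.2 fun q hq => by
    have h1 : u * q * u⁻¹ = q₁ * q * q₁⁻¹ := he ⟨q, hq⟩
    calc q * (q₁⁻¹ * u) = q₁⁻¹ * (q₁ * q * q₁⁻¹) * u := by group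
      _ = q₁⁻¹ * (u * q * u⁻¹) * u := by rw [h1]
      _ = q₁⁻¹ * u * q := by group⟩
  simpa using mul_mem hq₁ hcent

/-- The invariance when `S` lies in the subgroup and the cyclic part is preserved. -/
theorem rel_of_le {Q : Subgroup G} (hQP : Q ≤ (P : Subgroup G)) (hSQ : S ≤ Q)
    (hgood : ∀ g ∈ normalizer (Q : Set G), ∀ c ∈ Q ⊓ zpowers x, g * c * g⁻¹ ∈ zpowers x)
    {g : G} (hg : g ∈ normalizer (Q : Set G)) {a : G} (ha : a ∈ Q) : Rel P S a (g * a * g⁻¹) := by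
  have hSn : ∀ {g : G}, g ∈ normalizer (Q : Set G) → ∀ s ∈ S, g * s * g⁻¹ ∈ S := fun {g} hg s hs =>
    (D.conj_inter hQP hg ⟨hSQ hs, hs⟩).2
  have hR : ∀ {g a : G}, g ∈ normalizer (Q : Set G) → a ∈ Q → a ∈ cenP P S → g * a * g⁻¹ ∈ cenP P S := by
    intro g a hg ha haR
    refine ⟨hQP ((mem_normalizer_iff.1 hg a).1 ha), mem_centralizer_iff.2 fun s hs => ?_⟩
    have h1 := mem_centralizer_iff.1 haR.2 _ (hSn (inv_mem hg) s hs)
    rw [inv_inv] at h1
    calc s * (g * a * g⁻¹) = g * ((g⁻¹ * s * g) * a) * g⁻¹ := by group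
      _ = g * (a * (g⁻¹ * s * g)) * g⁻¹ := by rw [h1]
      _ = g * a * g⁻¹ * s := by group
  refine ⟨⟨hR hg ha, fun h => ?_⟩, ?_⟩
  · simpa [mul_assoc] using hR (inv_mem hg) ((mem_normalizer_iff.1 hg a).1 ha) h
  -- the commutator induces an inner automorphism on `S`
  have hxN : ∀ {g : G}, g ∈ normalizer (Q : Set G) → g * x * g⁻¹ ∈ zpowers x := fun hg =>
    hgood _ hg x ⟨hSQ D.xS, mem_zpowers x⟩
  obtain ⟨s₀, hs₀, hs₀x⟩ := D.exists_out
  set W := zpowers (x * x) with hW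
  have hWn : ∀ {g : G}, g ∈ normalizer (Q : Set G) → ∀ c ∈ W, g * c * g⁻¹ ∈ W := by
    intro g hg c hc
    obtain ⟨i, rfl⟩ := mem_zpowers_iff.1 hc
    obtain ⟨j, hj⟩ := mem_zpowers_iff.1 (hxN hg)
    have h := map_zpow (MulAut.conj g) (x * x) i
    simp only [MulAut.conj_apply] at h
    rw [h, show g * (x * x) * g⁻¹ = (g * x * g⁻¹) * (g * x * g⁻¹) by group, ← hj, ← (Commute.refl x).mul_zpow]
    exact zpow_mem (zpow_mem (mem_zpowers _) j) i
  let M : Subgroup ↥(normalizer (Q : Set G)) :=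
    { carrier := {t | s₀⁻¹ * ((t : G) * s₀ * (t : G)⁻¹) ∈ W}
      one_mem' := by simp
      mul_mem' := fun {t t'} ht ht' => by
        have h1 := mul_mem ht (hWn t.2 _ ht')
        simpa [mul_assoc] using h1
      inv_mem' := fun {t} ht => by
        have h1 := inv_mem (hWn (inv_mem t.2) _ ht)
        simpa [mul_assoc] using h1 }
  have hout : ∀ t : ↥(normalizer (Q : Set G)), s₀⁻¹ * ((t : G) * s₀ * (t : G)⁻¹) ∈ zpowers x := by
    intro t
    refine D.split s₀ hs₀ _ (hSn t.2 s₀ hs₀) hs₀x fun h => hs₀x ?_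
    obtain ⟨i, hi⟩ := mem_zpowers_iff.1 h
    obtain ⟨j, hj⟩ := mem_zpowers_iff.1 (hxN (inv_mem t.2))
    refine mem_zpowers_iff.2 ⟨j * i, ?_⟩
    have h' := map_zpow (MulAut.conj (t : G)⁻¹) x i
    simp only [MulAut.conj_apply] at h'
    rw [zpow_mul, hj, ← h', hi]
    group
  have htwo : ∀ t t' : ↥(normalizer (Q : Set G)), t ∉ M → t' ∉ M → t * t' ∈ M := by
    intro t t' ht ht'
    obtain ⟨i, hi⟩ := mem_zpowers_iff.1 (hout t)
    obtain ⟨j, hj⟩ := mem_zpowers_iff.1 (hout t')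
    have key : ∀ i : ℤ, x ^ i ∉ W → Odd i := fun i h => by
      rw [← Int.not_even_iff_odd]
      rintro ⟨m, rfl⟩
      exact h (mem_zpowers_iff.2 ⟨m, by rw [(Commute.refl x).mul_zpow, ← zpow_add]⟩)
    have hio := key i fun h => ht (show _ ∈ W from hi ▸ h)
    have hjo := key j fun h => ht' (show _ ∈ W from hj ▸ h)
    obtain ⟨l, hl⟩ := mem_zpowers_iff.1 (hxN t.2)
    have hlo : Odd l := by
      by_contra hl'
      obtain ⟨m, rfl⟩ := Int.not_odd_iff_even.1 hl'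
      obtain ⟨l', hl''⟩ := mem_zpowers_iff.1 (hxN (inv_mem t.2))
      have hx1 : x = x ^ (l' * (m + m)) := by
        have h' := map_zpow (MulAut.conj (t : G)⁻¹) x (m + m)
        simp only [MulAut.conj_apply] at h'
        rw [zpow_mul, hl'', ← h', hl]
        group
      have hd : (orderOf x : ℤ) ∣ l' * (m + m) - 1 := by
        rw [orderOf_dvd_iff_zpow_eq_one, zpow_sub, ← hx1, zpow_one, mul_inv_cancel]
      have heven : (2 : ℤ) ∣ (orderOf x : ℤ) := by
        obtain ⟨n, hn⟩ := IsPGroup.iff_orderOf.1 P.isPGroup' ⟨x, D.le D.xS⟩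
        rw [Subgroup.orderOf_mk] at hn
        rcases Nat.eq_zero_or_pos n with h0 | h0
        · refine absurd ?_ D.z1
          have hz := D.zx
          rwa [orderOf_eq_one_iff.1 (by rw [hn, h0, pow_zero] : orderOf x = 1), zpowers_one_eq_bot, mem_bot] at hz
        · rw [hn]; exact_mod_cast dvd_pow_self 2 h0.ne'
      have h2 := heven.trans hd
      rw [show l' * (m + m) = 2 * (l' * m) by ring] at h2
      omega
    obtain ⟨p, hp⟩ := hio.add_odd (hlo.mul hjo)
    show s₀⁻¹ * (((t * t' : ↥(normalizer (Q : Set G))) : G) * s₀ * ((t * t' : _) : G)⁻¹) ∈ W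
    refine mem_zpowers_iff.2 ⟨p, ?_⟩
    have h' := map_zpow (MulAut.conj (t : G)) x j
    simp only [MulAut.conj_apply] at h'
    calc (x * x) ^ p = x ^ (i + l * j) := by rw [hp, (Commute.refl x).mul_zpow, zpow_add]
      _ = (s₀⁻¹ * ((t : G) * s₀ * (t : G)⁻¹)) * ((t : G) * x ^ j * (t : G)⁻¹) := by
        rw [zpow_add, hi, h', ← hl, ← zpow_mul]
      _ = _ := by rw [hj, Subgroup.coe_mul]; group
  have hvM : (⟨a, le_normalizer ha⟩ : ↥(normalizer (Q : Set G)))⁻¹ *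
      (⟨g, hg⟩ * ⟨a, le_normalizer ha⟩ * ⟨g, hg⟩⁻¹) ∈ M := by
    set t : ↥(normalizer (Q : Set G)) := ⟨a, le_normalizer ha⟩
    set k : ↥(normalizer (Q : Set G)) := ⟨g, hg⟩
    have hmix : ∀ {p q : ↥(normalizer (Q : Set G))}, p ∈ M → q ∉ M → p * q ∉ M ∧ q * p ∉ M :=
      fun {p q} hp hq => ⟨fun h => hq (by simpa using mul_mem (inv_mem hp) h),
        fun h => hq (by simpa using mul_mem h (inv_mem hp))⟩
    by_cases ht : t ∈ M <;> by_cases hk : k ∈ M
    · exact mul_mem (inv_mem ht) (mul_mem (mul_mem hk ht) (inv_mem hk))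
    · exact mul_mem (inv_mem ht) (htwo _ _ (hmix ht hk).2 fun h => hk (inv_mem_iff.1 h))
    · exact htwo _ _ (fun h => ht (inv_mem_iff.1 h)) (hmix (inv_mem hk) (hmix hk ht).1).2
    · exact htwo _ _ (fun h => ht (inv_mem_iff.1 h))
        (hmix (htwo _ _ hk ht) fun h => hk (inv_mem_iff.1 h)).1
  set v := a⁻¹ * (g * a * g⁻¹) with hv
  have hvM' : s₀⁻¹ * (v * s₀ * v⁻¹) ∈ W := hvM
  obtain ⟨k, hk⟩ := mem_zpowers_iff.1 hvM'
  have hvP : v ∈ (P : Subgroup G) := hQP (mul_mem (inv_mem ha) ((mem_normalizer_iff.1 hg a).1 ha))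
  have hvx : v * x * v⁻¹ = x := by
    obtain ⟨i, hi⟩ := mem_zpowers_iff.1 (hxN hg)
    obtain ⟨l, hl⟩ := mem_zpowers_iff.1 (D.norm a (hQP ha))
    obtain ⟨j, hj⟩ := mem_zpowers_iff.1 (hxN (inv_mem hg))
    have hcp : ∀ (t : G) (n : ℤ), t * x ^ n * t⁻¹ = (t * x * t⁻¹) ^ n := fun t n => by
      have h := map_zpow (MulAut.conj t) x n
      simpa only [MulAut.conj_apply] using h
    have hji : x ^ (i * j) = x := by
      rw [zpow_mul, hi, ← hcp, hj]
      group
    have h1 : (g * a * g⁻¹) * x * (g * a * g⁻¹)⁻¹ = a * x * a⁻¹ := by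
      calc (g * a * g⁻¹) * x * (g * a * g⁻¹)⁻¹ = g * (a * (g⁻¹ * x * g⁻¹⁻¹) * a⁻¹) * g⁻¹ := by group
        _ = g * x ^ (l * j) * g⁻¹ := by rw [← hj, hcp, ← hl, ← zpow_mul]
        _ = (x ^ (i * j)) ^ l := by rw [hcp, ← hi, ← zpow_mul, ← zpow_mul]; congr 1; ring
        _ = a * x * a⁻¹ := by rw [hji, hl]
    calc v * x * v⁻¹ = a⁻¹ * ((g * a * g⁻¹) * x * (g * a * g⁻¹)⁻¹) * a := by rw [hv]; group
      _ = x := by rw [h1]; group
  have hcx : Commute v x := mul_inv_eq_iff_eq_mul.1 hvx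
  have hr : x ^ k * v ∈ cenP P S := by
    refine ⟨mul_mem (zpow_mem (D.le D.xS) k) hvP, mem_centralizer_iff.2 fun s hs => ?_⟩
    have hfx : Commute (x ^ k * v) x := ((Commute.refl x).zpow_left k).mul_left hcx
    have hfs : Commute (x ^ k * v) s₀ := by
      refine mul_inv_eq_iff_eq_mul.1 ?_
      calc x ^ k * v * s₀ * (x ^ k * v)⁻¹ = x ^ k * (s₀ * (s₀⁻¹ * (v * s₀ * v⁻¹))) * (x ^ k)⁻¹ := by group
        _ = s₀ * ((s₀⁻¹ * x ^ k * s₀⁻¹⁻¹) * (x * x) ^ k * (x ^ k)⁻¹) := by rw [← hk]; group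
        _ = s₀ := by
          rw [show s₀⁻¹ * x ^ k * s₀⁻¹⁻¹ = (x ^ k)⁻¹ from
            D.inv_of_out (inv_mem hs₀) (fun h => hs₀x (by simpa using inv_mem h)) (zpow_mem (mem_zpowers x) k),
            (Commute.refl x).mul_zpow]
          group
    by_cases hsx : s ∈ zpowers x
    · obtain ⟨i, rfl⟩ := mem_zpowers_iff.1 hsx
      exact (hfx.zpow_right i).eq.symm
    · obtain ⟨i, hi⟩ := mem_zpowers_iff.1 (D.split s₀ hs₀ s hs hs₀x hsx)
      rw [show s = s₀ * x ^ i by rw [hi]; group]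
      exact (hfs.mul_right (hfx.zpow_right i)).eq.symm
  have := mul_mem (mem_sup_left (T := cenP P S) (inv_mem (zpow_mem D.xS k))) (mem_sup_right (S := S) hr)
  rw [inv_mul_cancel_left] at this
  exact mem_sup_left this

/-- The invariance on a subgroup with an automorphism moving `⟨e⟩`. -/
theorem rel_of_moved {Q : Subgroup G} (hQP : Q ≤ (P : Subgroup G))
    {g₀ : G} (hg₀ : g₀ ∈ normalizer (Q : Set G)) {c₀ : G} (hc₀ : c₀ ∈ Q ⊓ zpowers x)
    (hmove : g₀ * c₀ * g₀⁻¹ ∉ zpowers x) (hu : x ∈ zpowers e ∨ ∃ u ∈ S, u ∈ normalizer (Q : Set G) ∧ u ∉ Q)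
    {g : G} (hg : g ∈ normalizer (Q : Set G)) {a : G} (ha : a ∈ Q) : Rel P S a (g * a * g⁻¹) := by
  have hzfix : ∀ {g : G}, g ∈ normalizer (Q : Set G) → ∀ s ∈ Q ⊓ S, s * s = z → g * z * g⁻¹ = z := by
    intro g hg s hs hsz
    have hzmem : z ∈ Q ⊓ S := hsz ▸ mul_mem hs hs
    refine (D.inv _ (D.conj_inter hQP hg hzmem).2 ?_).resolve_left fun h => D.z1 (conj_eq_one_iff.1 h)
    calc g * z * g⁻¹ * (g * z * g⁻¹) = g * (z * z) * g⁻¹ := by group
      _ = 1 := by rw [D.z2]; group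
  have hw₀ := D.conj_inter hQP hg₀ ⟨hc₀.1, D.cyc_le hc₀.2⟩
  have hc₀z : c₀ * c₀ = z := by
    have h1 := (D.out _ hw₀.2 hmove).1
    have h2 := hzfix (inv_mem hg₀) _ hw₀ h1
    rw [← h2, ← h1]; group
  have heQ : e ∈ Q := by
    rcases D.quarter hc₀.2 hc₀z with h | h
    · exact h ▸ hc₀.1
    · simpa [h] using inv_mem (show c₀ ∈ Q from hc₀.1)
  set w := g₀ * e * g₀⁻¹ with hw
  have hwS0 : w ∈ Q ⊓ S := D.conj_inter hQP hg₀ ⟨heQ, D.eS⟩
  have hwx : w ∉ zpowers x := by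
    intro h
    rcases D.quarter hc₀.2 hc₀z with h' | h'
    · exact hmove (h' ▸ h)
    · refine hmove ?_
      rw [h', show g₀ * e⁻¹ * g₀⁻¹ = w⁻¹ by rw [hw]; group]
      exact inv_mem h
  have hcyc : ∀ d ∈ Q ⊓ S, d ∈ zpowers x → d ∈ zpowers e := by
    intro d hd hdx
    by_contra hde
    have h4 : e ∈ zpowers d := by
      obtain ⟨n, hn⟩ := IsPGroup.iff_orderOf.1 P.isPGroup' ⟨d, hQP hd.1⟩
      rw [Subgroup.orderOf_mk] at hn
      have hn2 : 2 ≤ n := by
        by_contra h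
        refine hde (D.mem_zpowers_e hdx (Or.inl ?_))
        rw [← pow_two]
        exact orderOf_dvd_iff_pow_eq_one.1 (hn ▸ (pow_dvd_pow 2 (show n ≤ 1 by omega)).trans (by norm_num))
      set d' := d ^ 2 ^ (n - 2) with hd'
      have hd'4 : d' * d' * (d' * d') = 1 := by
        rw [hd', ← pow_add, ← pow_add,
          show 2 ^ (n - 2) + 2 ^ (n - 2) + (2 ^ (n - 2) + 2 ^ (n - 2)) = 2 ^ n by
            conv_rhs => rw [show n = n - 2 + 2 by omega, pow_add]
            ring, ← hn, pow_orderOf_eq_one]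
      have hd'2 : d' * d' ≠ 1 := by
        intro h
        rw [hd', ← pow_add, ← orderOf_dvd_iff_pow_eq_one, hn,
          show 2 ^ (n - 2) + 2 ^ (n - 2) = 2 ^ (n - 2 + 1) by rw [pow_succ]; ring,
          Nat.pow_dvd_pow_iff_le_right (by norm_num)] at h
        omega
      have hd'S : d' ∈ S := pow_mem hd.2 _
      have hz' := (D.inv _ (mul_mem hd'S hd'S) hd'4).resolve_left hd'2
      rcases D.quarter (pow_mem hdx _) hz' with h | h
      · exact h ▸ pow_mem (mem_zpowers d) _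
      · have he' : e = d'⁻¹ := by rw [hd', h, inv_inv]
        rw [he']
        exact inv_mem (pow_mem (mem_zpowers d) _)
    obtain ⟨i, hi⟩ := mem_zpowers_iff.1 h4
    by_cases hgd : g₀ * d * g₀⁻¹ ∈ zpowers x
    · refine hwx ?_
      have h := map_zpow (MulAut.conj g₀) d i
      simp only [MulAut.conj_apply] at h
      rw [hw, ← hi, h]
      exact zpow_mem hgd i
    · have h1 := (D.out _ (D.conj_inter hQP hg₀ hd).2 hgd).1
      have h2 := hzfix (inv_mem hg₀) _ (D.conj_inter hQP hg₀ hd) h1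
      exact hde (D.mem_zpowers_e hdx (Or.inr (by rw [← h2, ← h1]; group)))
  have hout : ∀ s ∈ Q ⊓ S, ∀ t ∈ Q ⊓ S, s ∉ zpowers x → t ∉ zpowers x → s⁻¹ * t ∈ zpowers e :=
    fun s hs t ht hsx htx => hcyc _ (mul_mem (inv_mem hs) ht) (D.split s hs.2 t ht.2 hsx htx)
  -- the centraliser of `Q ⊓ S` in `Q`
  set C := Q ⊓ centralizer ((Q ⊓ S : Subgroup G) : Set G) with hC
  have hCiff : ∀ q ∈ Q, Commute q e → Commute q w → q ∈ C := by
    intro q hq he hwq
    refine ⟨hq, mem_centralizer_iff.2 fun s hs => ?_⟩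
    by_cases hsx : s ∈ zpowers x
    · obtain ⟨i, rfl⟩ := mem_zpowers_iff.1 (hcyc s hs hsx)
      exact (he.zpow_right i).eq.symm
    · obtain ⟨i, hi⟩ := mem_zpowers_iff.1 (hout w hwS0 s hs hwx hsx)
      rw [show s = w * e ^ i by rw [hi]; group]
      exact (hwq.mul_right (he.zpow_right i)).eq.symm
  have hlines : ∀ q ∈ Q, (q * e * q⁻¹ = e ∨ q * e * q⁻¹ = e⁻¹) ∧ (q * w * q⁻¹ = w ∨ q * w * q⁻¹ = w⁻¹) := by
    intro q hq
    refine ⟨D.norm_e (hQP hq), ?_⟩
    have hq' : g₀⁻¹ * q * g₀ ∈ Q := by simpa using (mem_normalizer_iff.1 (inv_mem hg₀) q).1 hq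
    rcases D.norm_e (hQP hq') with h | h
    · left
      calc q * w * q⁻¹ = g₀ * ((g₀⁻¹ * q * g₀) * e * (g₀⁻¹ * q * g₀)⁻¹) * g₀⁻¹ := by rw [hw]; group
        _ = w := by rw [h, hw]
    · right
      calc q * w * q⁻¹ = g₀ * ((g₀⁻¹ * q * g₀) * e * (g₀⁻¹ * q * g₀)⁻¹) * g₀⁻¹ := by rw [hw]; group
        _ = w⁻¹ := by rw [h, hw]; group
  have hew : w * e * w⁻¹ = e⁻¹ := D.inv_of_out hwS0.2 hwx D.ex
  have hew' : e * w * e⁻¹ = w⁻¹ := by
    have hwz : w⁻¹ = w * z := by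
      refine inv_eq_of_mul_eq_one_right ?_
      rw [← mul_assoc, (D.out w hwS0.2 hwx).1, D.z2]
    have h2 : w * e = e⁻¹ * w := mul_inv_eq_iff_eq_mul.1 hew
    calc e * w * e⁻¹ = e * (w * e) * (e * e)⁻¹ := by group
      _ = w * z⁻¹ := by rw [h2, D.e2]; group
      _ = w⁻¹ := by rw [inv_eq_of_mul_eq_one_right D.z2, hwz]
  have hdecomp : ∀ q ∈ Q, ∃ s ∈ Q ⊓ S, s⁻¹ * q ∈ C := by
    intro q hq
    obtain ⟨h1, h2⟩ := hlines q hq
    have hsel : ∀ s ∈ Q ⊓ S, s * e * s⁻¹ = q * e * q⁻¹ → s * w * s⁻¹ = q * w * q⁻¹ → s⁻¹ * q ∈ C := by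
      intro s hs he hw'
      refine hCiff _ (mul_mem (inv_mem hs.1) hq) (mul_inv_eq_iff_eq_mul.1 ?_) (mul_inv_eq_iff_eq_mul.1 ?_)
      · calc s⁻¹ * q * e * (s⁻¹ * q)⁻¹ = s⁻¹ * (q * e * q⁻¹) * s := by group
          _ = e := by rw [← he]; group
      · calc s⁻¹ * q * w * (s⁻¹ * q)⁻¹ = s⁻¹ * (q * w * q⁻¹) * s := by group
          _ = w := by rw [← hw']; group
    have heS0 : e ∈ Q ⊓ S := ⟨heQ, D.eS⟩
    rcases h1 with h1 | h1 <;> rcases h2 with h2 | h2
    · exact ⟨1, one_mem _, hsel 1 (one_mem _) (by rw [h1]; group) (by rw [h2]; group)⟩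
    · exact ⟨e, heS0, hsel e heS0 (by rw [h1]; group) (by rw [h2, hew'])⟩
    · exact ⟨w, hwS0, hsel w hwS0 (by rw [h1, hew]) (by rw [h2]; group)⟩
    · refine ⟨e * w, mul_mem heS0 hwS0, hsel _ (mul_mem heS0 hwS0) ?_ ?_⟩
      · rw [h1, show e * w * e * (e * w)⁻¹ = e * (w * e * w⁻¹) * e⁻¹ by group, hew]; group
      · rw [h2, show e * w * w * (e * w)⁻¹ = e * w * e⁻¹ by group, hew']
  have hCz : ∀ c ∈ C, ∀ d, d = 1 ∨ d = z → (d * c) * x * (d * c)⁻¹ = c * x * c⁻¹ := by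
    intro c hc d hd
    rcases hd with hd | hd <;> rw [hd]
    · rw [one_mul]
    · have hzc : Commute z (c * x * c⁻¹) := (D.z_comm (D.le (D.cyc_le (D.norm c (hQP hc.1))))).symm
      calc z * c * x * (z * c)⁻¹ = z * (c * x * c⁻¹) * z⁻¹ := by group
        _ = c * x * c⁻¹ := by rw [hzc.eq, mul_inv_cancel_right]
  have hCconj : ∀ {g : G}, g ∈ normalizer (Q : Set G) → ∀ c ∈ C, g * c * g⁻¹ ∈ C := by
    intro g hg c hc
    refine ⟨(mem_normalizer_iff.1 hg c).1 hc.1, mem_centralizer_iff.2 fun s hs => ?_⟩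
    have h1 := mem_centralizer_iff.1 hc.2 _ (D.conj_inter' hQP hg hs)
    calc s * (g * c * g⁻¹) = g * ((g⁻¹ * s * g) * c) * g⁻¹ := by group
      _ = g * (c * (g⁻¹ * s * g)) * g⁻¹ := by rw [h1]
      _ = g * c * g⁻¹ * s := by group
  -- the action on the cyclic part is invariant
  have hinv : ∀ {g : G}, g ∈ normalizer (Q : Set G) → ∀ c ∈ C,
      (g * c * g⁻¹) * x * (g * c * g⁻¹)⁻¹ = c * x * c⁻¹ := by
    intro g hg c hc
    rcases hu with hxe | ⟨u, huS, huN, huQ⟩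
    · obtain ⟨i, hi⟩ := mem_zpowers_iff.1 hxe
      have hfix : ∀ q ∈ C, q * x * q⁻¹ = x := fun q hq => by
        have hqe : Commute q e := (mem_centralizer_iff.1 hq.2 e ⟨heQ, D.eS⟩).symm
        rw [← hi, (hqe.zpow_right i).eq, mul_inv_cancel_right]
      rw [hfix _ (hCconj hg c hc), hfix c hc]
    by_cases hge : g * e * g⁻¹ ∈ zpowers e
    · exact D.action_eq hge (hQP hc.1) (hQP (hCconj hg c hc).1)
    have hswap : ∀ s ∈ Q ⊓ S, s ∉ zpowers x → s⁻¹ * (u * s * u⁻¹) = e ∨ s⁻¹ * (u * s * u⁻¹) = e⁻¹ := by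
      intro s hs hsx
      have hus := D.conj_inter hQP huN hs
      have husx : u * s * u⁻¹ ∉ zpowers x := fun h => hsx (by
        simpa [mul_assoc] using D.conj_mem_cyc (inv_mem (D.le huS)) h)
      have key : ∀ v : G, v ∈ zpowers x → v ∉ zpowers e → v * v ∈ zpowers e → v * v = e ∨ v * v = e⁻¹ := by
        intro v hv hve hvv
        rcases D.e_zpowers hvv with h | h | h | h
        · exact absurd (D.mem_zpowers_e hv (Or.inl h)) hve
        · exact absurd (D.mem_zpowers_e hv (Or.inr h)) hve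
        · exact Or.inl h
        · exact Or.inr h
      have hmem := hout s hs _ hus hsx husx
      have hzp : ∀ v ∈ zpowers e, v ∈ Q := fun v hv => zpowers_le.2 heQ hv
      have hsinv : s⁻¹ ∉ zpowers x := fun h => hsx (by simpa using inv_mem h)
      by_cases hux : u ∈ zpowers x
      · have heq : s⁻¹ * (u * s * u⁻¹) = u⁻¹ * u⁻¹ := by
          have := D.inv_of_out (inv_mem hs.2) hsinv hux
          rw [inv_inv] at this
          rw [← mul_assoc, ← mul_assoc, this]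
        rw [heq] at hmem ⊢
        exact key u⁻¹ (inv_mem hux) (fun h => huQ (by simpa using inv_mem (hzp _ h))) hmem
      · set v := s⁻¹ * u with hv
        have hvx := D.split s hs.2 u huS hsx hux
        have hvs : v * s * v⁻¹ = s * (v⁻¹ * v⁻¹) := by
          have h1 := D.inv_of_out (inv_mem hs.2) hsinv hvx
          rw [inv_inv] at h1
          calc v * s * v⁻¹ = s * (s⁻¹ * v * s) * v⁻¹ := by group
            _ = s * (v⁻¹ * v⁻¹) := by rw [h1, mul_assoc]
        have heq : s⁻¹ * (u * s * u⁻¹) = v * v := by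
          calc s⁻¹ * (u * s * u⁻¹) = s⁻¹ * (s * (v * s * v⁻¹) * s⁻¹) := by rw [hv]; group
            _ = s * (v⁻¹ * v⁻¹) * s⁻¹ := by rw [hvs]; group
            _ = (v⁻¹ * v⁻¹)⁻¹ := D.inv_of_out hs.2 hsx (mul_mem (inv_mem hvx) (inv_mem hvx))
            _ = v * v := by rw [mul_inv_rev, inv_inv]
        rw [heq] at hmem ⊢
        refine key v hvx (fun h => huQ ?_) hmem
        simpa [hv] using mul_mem hs.1 (hzp _ h)
    -- commutators with `u` lie in `⟨z⟩`
    have hcomm : ∀ c ∈ C, ∃ d, (d = 1 ∨ d = z) ∧ u * c * u⁻¹ = d * c := by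
      intro c hc
      refine ⟨u * c * u⁻¹ * c⁻¹, ?_, by group⟩
      set d := u * c * u⁻¹ * c⁻¹ with hd
      have hdS : d ∈ S := by
        rw [hd, show u * c * u⁻¹ * c⁻¹ = u * (c * u⁻¹ * c⁻¹) by group]
        exact mul_mem huS (D.conj_mem (hQP hc.1) (inv_mem huS))
      have hdC : d ∈ C := mul_mem (hCconj huN c hc) (inv_mem hc)
      have hdx : d ∈ zpowers x := by
        by_contra h
        refine D.out_e hdS h (mul_inv_eq_iff_eq_mul.2 ?_)
        exact (mem_centralizer_iff.1 hdC.2 e ⟨heQ, D.eS⟩).symm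
      rcases D.e_zpowers (hcyc d ⟨hdC.1, hdS⟩ hdx) with h | h | h | h
      · exact Or.inl h
      · exact Or.inr h
      · exfalso
        have := mem_centralizer_iff.1 hdC.2 w hwS0
        rw [h, mul_inv_eq_iff_eq_mul.1 hew] at this
        exact D.e_ne_inv (mul_right_cancel this).symm
      · exfalso
        have h' := mem_centralizer_iff.1 hdC.2 w hwS0
        rw [h] at h'
        refine D.out_e hwS0.2 hwx ?_
        have hc' : Commute w e := by simpa using (show Commute w e⁻¹ from h').inv_right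
        rw [hc'.eq, mul_inv_cancel_right]
    set l := g * e * g⁻¹ with hl
    have hlS0 : l ∈ Q ⊓ S := D.conj_inter hQP hg ⟨heQ, D.eS⟩
    have hlx : l ∉ zpowers x := fun h => hge (hcyc _ hlS0 h)
    set u' := g * u * g⁻¹ with hu'
    have hu'N : u' ∈ normalizer (Q : Set G) := mul_mem (mul_mem hg huN) (inv_mem hg)
    have hu'l : u' * l * u'⁻¹ = l ∨ u' * l * u'⁻¹ = l⁻¹ := by
      rcases D.norm_e (D.le huS) with h | h
      · left
        calc u' * l * u'⁻¹ = g * (u * e * u⁻¹) * g⁻¹ := by rw [hu', hl]; group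
          _ = l := by rw [h, hl]
      · right
        calc u' * l * u'⁻¹ = g * (u * e * u⁻¹) * g⁻¹ := by rw [hu', hl]; group
          _ = l⁻¹ := by rw [h, hl]; group
    set m := u' * e * u'⁻¹ with hm
    have hmS0 : m ∈ Q ⊓ S := D.conj_inter hQP hu'N ⟨heQ, D.eS⟩
    -- `u'` moves `e` to a third class
    have hgeS0 : g⁻¹ * e * g ∈ Q ⊓ S := D.conj_inter' hQP hg ⟨heQ, D.eS⟩
    have hgex : g⁻¹ * e * g ∉ zpowers x := fun h => hge (by
      rcases D.e_zpowers (hcyc _ hgeS0 h) with h' | h' | h' | h'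
      · exfalso; refine D.z1 ?_
        have : e = 1 := by
          calc e = g * (g⁻¹ * e * g) * g⁻¹ := by group
            _ = 1 := by rw [h']; group
        rw [← D.e2, this, mul_one]
      · exfalso; refine D.z1 ?_
        rw [← D.e2, show e * e = g * ((g⁻¹ * e * g) * (g⁻¹ * e * g)) * g⁻¹ by group, h', D.z2]; group
      · have : g * e * g⁻¹ = e := by
          nth_rewrite 1 [← h']
          group
        show g * e * g⁻¹ ∈ _
        rw [this]; exact mem_zpowers e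
      · have : g * e⁻¹ * g⁻¹ = e := by
          rw [← h']
          group
        have h2 : g * e * g⁻¹ = e⁻¹ := by
          calc g * e * g⁻¹ = (g * e⁻¹ * g⁻¹)⁻¹ := by group
            _ = e⁻¹ := by rw [this]
        show g * e * g⁻¹ ∈ _
        rw [h2]; exact inv_mem (mem_zpowers e))
    have hmx : m ∉ zpowers x := by
      intro h
      have hme := hcyc m hmS0 h
      have h1 : g⁻¹ * m * g = u * (g⁻¹ * e * g) * u⁻¹ := by rw [hm, hu']; group
      rcases hswap _ hgeS0 hgex with h' | h' <;>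
      · have hmv : m = e * (g * (((g⁻¹ * e * g))⁻¹ * (u * (g⁻¹ * e * g) * u⁻¹)) * g⁻¹) := by
          rw [← h1]; group
        rw [h'] at hmv
        rcases D.e_zpowers hme with h2 | h2 | h2 | h2 <;>
        · have h3 := hmv.symm.trans h2
          exact hlx (by
            first
            | (have h4 : l = e⁻¹ * 1 := eq_inv_mul_of_mul_eq h3
               rw [h4]; exact mul_mem (inv_mem D.ex) (one_mem _))
            | (have h4 : l = e⁻¹ * z := eq_inv_mul_of_mul_eq h3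
               rw [h4]; exact mul_mem (inv_mem D.ex) D.zx)
            | (have h4 : l = e⁻¹ * e := eq_inv_mul_of_mul_eq h3
               rw [h4]; exact mul_mem (inv_mem D.ex) D.ex)
            | (have h4 : l = e⁻¹ * e⁻¹ := eq_inv_mul_of_mul_eq h3
               rw [h4]; exact mul_mem (inv_mem D.ex) (inv_mem D.ex))
            | (have h4 : g * e⁻¹ * g⁻¹ = e⁻¹ * 1 := eq_inv_mul_of_mul_eq h3
               rw [show l = (g * e⁻¹ * g⁻¹)⁻¹ by rw [hl]; group, h4]
               exact inv_mem (mul_mem (inv_mem D.ex) (one_mem _)))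
            | (have h4 : g * e⁻¹ * g⁻¹ = e⁻¹ * z := eq_inv_mul_of_mul_eq h3
               rw [show l = (g * e⁻¹ * g⁻¹)⁻¹ by rw [hl]; group, h4]
               exact inv_mem (mul_mem (inv_mem D.ex) D.zx))
            | (have h4 : g * e⁻¹ * g⁻¹ = e⁻¹ * e := eq_inv_mul_of_mul_eq h3
               rw [show l = (g * e⁻¹ * g⁻¹)⁻¹ by rw [hl]; group, h4]
               exact inv_mem (mul_mem (inv_mem D.ex) D.ex))
            | (have h4 : g * e⁻¹ * g⁻¹ = e⁻¹ * e⁻¹ := eq_inv_mul_of_mul_eq h3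
               rw [show l = (g * e⁻¹ * g⁻¹)⁻¹ by rw [hl]; group, h4]
               exact inv_mem (mul_mem (inv_mem D.ex) (inv_mem D.ex))))
    have hml : m⁻¹ * l = e ∨ m⁻¹ * l = e⁻¹ := by
      rcases D.e_zpowers (hout m hmS0 l hlS0 hmx hlx) with h | h | h | h
      · exfalso
        have hml' : m = l := inv_mul_eq_one.1 h
        rw [hm] at hml'
        rcases hu'l with h' | h'
        · exact hge (by
            have : e = l := mul_left_cancel (mul_right_cancel (hml'.trans h'.symm))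
            rw [← this]; exact mem_zpowers e)
        · exact hge (by
            have : e = l⁻¹ := mul_left_cancel (mul_right_cancel (hml'.trans (by
              rw [show u' * l⁻¹ * u'⁻¹ = (u' * l * u'⁻¹)⁻¹ by group, h', inv_inv])))
            rw [show l = e⁻¹ by rw [this, inv_inv]]; exact inv_mem (mem_zpowers e))
      · exfalso
        have hl' : l = m * z := by rw [← h]; group
        have hmz : m * z = m⁻¹ := by
          refine (inv_eq_of_mul_eq_one_right ?_).symm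
          rw [← mul_assoc, (D.out m hmS0.2 hmx).1, D.z2]
        rw [hmz] at hl'
        have hm' : u' * e * u'⁻¹ = l⁻¹ := by rw [hl', inv_inv, hm]
        rcases hu'l with h' | h'
        · refine hge ?_
          have : e = l⁻¹ := mul_left_cancel (mul_right_cancel (hm'.trans (by
            rw [show u' * l⁻¹ * u'⁻¹ = (u' * l * u'⁻¹)⁻¹ by group, h'])))
          rw [show l = e⁻¹ by rw [this, inv_inv]]; exact inv_mem (mem_zpowers e)
        · refine hge ?_
          have : e = l := mul_left_cancel (mul_right_cancel (hm'.trans h'.symm))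
          rw [← this]; exact mem_zpowers e
      · exact Or.inl h
      · exact Or.inr h
    -- so `u * u'` carries `e` to the class of `l`
    have huu : u * m * u⁻¹ = l ∨ u * m * u⁻¹ = l⁻¹ := by
      have hlz : l⁻¹ = l * z := by
        refine inv_eq_of_mul_eq_one_right ?_
        rw [← mul_assoc, (D.out l hlS0.2 hlx).1, D.z2]
      rcases hswap m hmS0 hmx with h | h <;> rcases hml with h' | h'
      · exact Or.inl (mul_left_cancel (h.trans h'.symm))
      · right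
        rw [hlz, show l = m * e⁻¹ by rw [← h']; group,
          show u * m * u⁻¹ = m * e by rw [← h]; group, mul_assoc m e⁻¹ z, D.e_inv, mul_assoc e z z,
          D.z2, mul_one]
      · right
        rw [hlz, show l = m * e by rw [← h']; group,
          show u * m * u⁻¹ = m * e⁻¹ by rw [← h]; group, mul_assoc m e z, ← D.e_inv]
      · exact Or.inl (mul_left_cancel (h.trans h'.symm))
    set g₁ := (u * u')⁻¹ * g with hg₁
    have hg₁N : g₁ ∈ normalizer (Q : Set G) := mul_mem (inv_mem (mul_mem huN hu'N)) hg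
    have hg₁e : g₁ * e * g₁⁻¹ ∈ zpowers e := by
      rw [hg₁, show (u * u')⁻¹ * g * e * ((u * u')⁻¹ * g)⁻¹ = (u * u')⁻¹ * l * (u * u') by rw [hl]; group]
      rcases huu with h | h
      · rw [← h, show (u * u')⁻¹ * (u * m * u⁻¹) * (u * u') = u'⁻¹ * m * u' by group, hm]
        rw [show u'⁻¹ * (u' * e * u'⁻¹) * u' = e by group]
        exact mem_zpowers e
      · rw [show l = (u * m * u⁻¹)⁻¹ by rw [h, inv_inv],
          show (u * u')⁻¹ * (u * m * u⁻¹)⁻¹ * (u * u') = (u'⁻¹ * m * u')⁻¹ by group, hm,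
          show u'⁻¹ * (u' * e * u'⁻¹) * u' = e by group]
        exact inv_mem (mem_zpowers e)
    set c₁ := g₁ * c * g₁⁻¹ with hc₁
    have hc₁C : c₁ ∈ C := hCconj hg₁N c hc
    obtain ⟨d₁, hd₁, he₁⟩ := hcomm (g⁻¹ * c₁ * g) (by simpa using hCconj (inv_mem hg) c₁ hc₁C)
    have hu'c : ∃ d, (d = 1 ∨ d = z) ∧ u' * c₁ * u'⁻¹ = d * c₁ := by
      refine ⟨g * d₁ * g⁻¹, ?_, ?_⟩
      · rcases hd₁ with h | h
        · left; rw [h, mul_one, mul_inv_cancel]
        · right; rw [h]; exact hzfix hg w hwS0 (D.out w hwS0.2 hwx).1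
      · calc u' * c₁ * u'⁻¹ = g * (u * (g⁻¹ * c₁ * g) * u⁻¹) * g⁻¹ := by rw [hu']; group
          _ = g * d₁ * g⁻¹ * c₁ := by rw [he₁]; group
    obtain ⟨d₂, hd₂, he₂⟩ := hu'c
    obtain ⟨d₃, hd₃, he₃⟩ := hcomm c₁ hc₁C
    have hz : ∀ d, (d = 1 ∨ d = z) → u * d * u⁻¹ = d := fun d hd => by
      rcases hd with hd | hd <;> rw [hd]
      · group
      · exact mul_inv_eq_iff_eq_mul.2 (D.z_comm (D.le huS))
    have htot : g * c * g⁻¹ = d₂ * d₃ * c₁ := by
      calc g * c * g⁻¹ = u * (u' * c₁ * u'⁻¹) * u⁻¹ := by rw [hc₁, hg₁]; group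
        _ = (u * d₂ * u⁻¹) * (u * c₁ * u⁻¹) := by rw [he₂]; group
        _ = d₂ * d₃ * c₁ := by rw [hz d₂ hd₂, he₃, mul_assoc]
    have hd : d₂ * d₃ = 1 ∨ d₂ * d₃ = z := by
      rcases hd₂ with h | h <;> rcases hd₃ with h' | h' <;> simp [h, h', D.z2]
    rw [htot, hCz c₁ hc₁C _ hd]
    exact D.action_eq hg₁e (hQP hc.1) (hQP hc₁C.1)
  -- membership
  have hRC : ∀ q ∈ C, q * x * q⁻¹ = x → q ∈ cenP P S := by
    intro q hq hqx
    refine ⟨hQP hq.1, mem_centralizer_iff.2 fun s hs => ?_⟩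
    have hfx : Commute q x := mul_inv_eq_iff_eq_mul.1 hqx
    have hqw : Commute q w := (mem_centralizer_iff.1 hq.2 w hwS0).symm
    by_cases hsx : s ∈ zpowers x
    · obtain ⟨i, rfl⟩ := mem_zpowers_iff.1 hsx
      exact (hfx.zpow_right i).eq.symm
    · obtain ⟨i, hi⟩ := mem_zpowers_iff.1 (D.split w hwS0.2 s hs hwx hsx)
      rw [show s = w * x ^ i by rw [hi]; group]
      exact (hqw.mul_right (hfx.zpow_right i)).eq.symm
  have hR : ∀ {g a : G}, g ∈ normalizer (Q : Set G) → a ∈ Q → a ∈ cenP P S → g * a * g⁻¹ ∈ cenP P S := by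
    intro g a hg ha haR
    have haC : a ∈ C := ⟨ha, mem_centralizer_iff.2 fun s hs => mem_centralizer_iff.1 haR.2 s hs.2⟩
    refine hRC _ (hCconj hg a haC) ?_
    rw [hinv hg a haC, (mem_centralizer_iff.1 haR.2 x D.xS).symm, mul_inv_cancel_right]
  refine ⟨⟨hR hg ha, fun h => ?_⟩, ?_⟩
  · simpa [mul_assoc] using hR (inv_mem hg) ((mem_normalizer_iff.1 hg a).1 ha) h
  obtain ⟨s, hs, hsC⟩ := hdecomp a ha
  set c := s⁻¹ * a with hc
  have hv : c⁻¹ * (g * c * g⁻¹) ∈ cenP P S := by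
    refine hRC _ (mul_mem (inv_mem hsC) (hCconj hg c hsC)) ?_
    calc c⁻¹ * (g * c * g⁻¹) * x * (c⁻¹ * (g * c * g⁻¹))⁻¹
        = c⁻¹ * ((g * c * g⁻¹) * x * (g * c * g⁻¹)⁻¹) * c := by group
      _ = x := by rw [hinv hg c hsC]; group
  have hkey : a⁻¹ * (g * a * g⁻¹) = c⁻¹ * (s⁻¹ * (g * s * g⁻¹)) * c⁻¹⁻¹ * (c⁻¹ * (g * c * g⁻¹)) := by
    rw [hc]; group
  rw [hkey]
  refine mul_mem (mem_sup_left (mem_sup_left ?_)) (mem_sup_left (mem_sup_right hv))
  exact D.conj_mem (inv_mem (hQP hsC.1)) (mul_mem (inv_mem hs.2) (D.conj_inter hQP hg hs).2)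

/-- The invariance on the subgroups used by Alperin's theorem. -/
theorem rel_of_normalizes {Q : Subgroup G} (hQP : Q ≤ (P : Subgroup G))
    (hQ : S ≤ Q ∨ ((P : Subgroup G) ⊓ centralizer (Q : Set G) ≤ Q ∧
      (groupFusionSystem (P : Subgroup G)).IsRadical 2 Q))
    {g : G} (hg : g ∈ normalizer (Q : Set G)) {a : G} (ha : a ∈ Q) : Rel P S a (g * a * g⁻¹) := by
  by_cases hgood : ∀ g ∈ normalizer (Q : Set G), ∀ c ∈ Q ⊓ zpowers x, g * c * g⁻¹ ∈ zpowers x
  · refine D.rel_of_le hQP ?_ hgood hg ha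
    rcases hQ with h | ⟨h1, h2⟩
    · exact h
    · exact D.not_good hQP h1 h2 hgood
  push Not at hgood
  obtain ⟨g₀, hg₀, c₀, hc₀, hmove⟩ := hgood
  refine D.rel_of_moved hQP hg₀ hc₀ hmove ?_ hg ha
  by_cases hSQ : S ≤ Q
  · left
    by_contra hxe
    -- then `x` has order at least eight and is sent into the cyclic part
    by_cases h : g₀ * x * g₀⁻¹ ∈ zpowers x
    · refine hmove ?_
      obtain ⟨i, hi⟩ := mem_zpowers_iff.1 hc₀.2
      have h' := map_zpow (MulAut.conj g₀) x i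
      simp only [MulAut.conj_apply] at h'
      rw [← hi, h']
      exact zpow_mem h i
    · have hS' := (D.conj_inter hQP hg₀ ⟨hSQ D.xS, D.xS⟩).2
      have h1 := (D.out _ hS' h).1
      refine hxe (D.mem_zpowers_e (mem_zpowers x) ?_)
      have hxx : x * x ∈ S := mul_mem D.xS D.xS
      rcases D.inv (x * x) hxx (by
        have h2 : g₀ * (x * x * (x * x)) * g₀⁻¹ = 1 := by
          rw [show g₀ * (x * x * (x * x)) * g₀⁻¹ = (g₀ * x * g₀⁻¹ * (g₀ * x * g₀⁻¹)) * (g₀ * x * g₀⁻¹ * (g₀ * x * g₀⁻¹)) by group,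
            h1, D.z2]
        exact conj_eq_one_iff.1 h2) with h' | h'
      · exact Or.inl h'
      · exact Or.inr h'
  · right
    obtain ⟨h1, h2⟩ := hQ.resolve_left hSQ
    haveI : Fact (Nat.Prime 2) := ⟨Nat.prime_two⟩
    have hSn : Q ≤ normalizer (S : Set G) := le_normalizer_iff.2 fun t ht s hs => D.conj_mem (hQP ht) hs
    have hlt : Q < Q ⊔ S := lt_of_le_of_ne le_sup_left fun h => hSQ (h ▸ le_sup_right)
    obtain ⟨v, hv, hvQ⟩ := SetLike.exists_of_lt
      (Fusion.lt_inf_normalizer ((P.isPGroup'.to_le (sup_le hQP D.le)).isNilpotent) hlt)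
    obtain ⟨hvQS, hvN⟩ := hv
    have hvQS' : v ∈ ((Q ⊔ S : Subgroup G) : Set G) := hvQS
    rw [coe_mul_of_left_le_normalizer_right _ _ hSn] at hvQS'
    obtain ⟨q₀, hq₀, u, hu, rfl⟩ := hvQS'
    refine ⟨u, hu, ?_, fun h => hvQ (mul_mem hq₀ h)⟩
    simpa using mul_mem (inv_mem (le_normalizer (H := Q) hq₀)) hvN

/-- The subsystem of the maps preserving the relation. -/
def relSystem : Cfsg.FusionSystem (P : Subgroup G) where
  Hom Q := {φ | φ ∈ (groupFusionSystem (P : Subgroup G)).Hom Q ∧ ∀ a : Q, Rel P S a (φ a)}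
  le_of_mem h := (groupFusionSystem (P : Subgroup G)).le_of_mem h.1
  injective_of_mem h := (groupFusionSystem (P : Subgroup G)).injective_of_mem h.1
  conj_mem := fun {Q t} hQ ht => ⟨(groupFusionSystem (P : Subgroup G)).conj_mem hQ ht,
    fun a => D.conj_P_mem ht (hQ a.2)⟩
  comp_mem := fun {_ _ φ ψ} hφ hψ h => ⟨(groupFusionSystem (P : Subgroup G)).comp_mem hφ.1 hψ.1 h,
    fun a => (hφ.2 a).trans (hψ.2 ⟨φ a, h a⟩)⟩
  inv_mem := fun {Q φ} hφ => by
    obtain ⟨ψ, hψ, he⟩ := (groupFusionSystem (P : Subgroup G)).inv_mem hφ.1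
    refine ⟨ψ, ⟨hψ, ?_⟩, he⟩
    rintro ⟨_, a, rfl⟩
    rw [he a]
    exact (hφ.2 a).symm

/-- Fusion preserves the relation. -/
theorem rel_of_conj {g a : G} (ha : a ∈ (P : Subgroup G)) (hga : g * a * g⁻¹ ∈ (P : Subgroup G)) :
    Rel P S a (g * a * g⁻¹) := by
  haveI : Fact (Nat.Prime 2) := ⟨Nat.prime_two⟩
  have hle : groupFusionSystem (P : Subgroup G) ≤ D.relSystem := by
    refine FusionSys.alperin_centric_radical P.isPGroup' (FusionSys.groupFusionSystem_saturated P) fun Q hQ α hα => ?_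
    have hQP : Q ≤ (P : Subgroup G) := hQ.elim le_of_eq fun h => h.1.1
    refine (FusionSys.mem_autGroup_iff _ hQP α).2 ⟨(FusionSys.mem_autGroup_iff _ hQP α).1 hα, fun q => ?_⟩
    rw [FusionSys.group_autGroup P hQP, FusionSys.mem_autInducedBy_iff] at hα
    obtain ⟨k, -, he⟩ := hα
    show Rel P S q (α q : Q)
    rw [he q]
    refine D.rel_of_normalizes hQP ?_ (FusionSys.mem_normalizer_of_autInduced he) q.2
    rcases hQ with rfl | ⟨h1, h2, -⟩
    · exact Or.inl D.le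
    · refine Or.inr ⟨?_, h2⟩
      exact h1.2 Q ⟨Q.subtype, ⟨hQP, fun q => hQP q.2, 1, fun q => by simp⟩, Q.range_subtype⟩
  have hmem : Cfsg.conjHom (zpowers a) g ∈ (groupFusionSystem (P : Subgroup G)).Hom (zpowers a) := by
    refine ⟨zpowers_le.2 ha, fun q => ?_, g, fun q => rfl⟩
    obtain ⟨i, hi⟩ := mem_zpowers_iff.1 q.2
    show g * (q : G) * g⁻¹ ∈ _
    rw [← hi]
    have h := map_zpow (MulAut.conj g) a i
    simp only [MulAut.conj_apply] at h
    rw [h]
    exact zpow_mem hga i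
  exact (hle (zpowers a) hmem).2 ⟨a, mem_zpowers a⟩

end Quat

end Cfsg.Agent.ClosedLocal
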