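import Cfsg.Agent.Lib.ClosedLocal.QuatEnd
import Cfsg.Agent.Lib.GateCons.Kernel
import Cfsg.Agent.Lib.ClosedLocal.Local

/-!
A strongly closed 2-subgroup with one involution is the intersection of the Sylow subgroup with its normal
closure.
-/

set_option autoImplicit false
set_option linter.style.haveILetI false
set_option linter.unusedSectionVars false

namespace Cfsg.Agent.ClosedLocal

open Subgroup

universe u

variable {G : Type u} [Group G] [Finite G]

/-- A 2-element of odd subgroup is trivial. -/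
theorem eq_one_of_mem_odd {P : Sylow 2 G} {O : Subgroup G} (hO : Odd (Nat.card O)) {x : G}
    (hxP : x ∈ (P : Subgroup G)) (hxO : x ∈ O) : x = 1 := by
  haveI : Fact (Nat.Prime 2) := ⟨Nat.prime_two⟩
  refine mem_bot.1 (mem_of_mem_sup_odd (N := ⊥) hO (P.isPGroup'.to_le (zpowers_le.2 hxP)) ?_)
  exact mem_sup_right hxO

/-- The normal closure of a strongly closed subgroup is generated normally by it. -/
theorem ncl_subgroupOf {P : Sylow 2 G} {S : Subgroup G} (hS : Cfsg.IsStronglyClosed S (P : Subgroup G))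
    (K : Subgroup G) (hK : K = normalClosure (S : Set G)) :
    normalClosure ((S.subgroupOf K : Subgroup K) : Set K) = ⊤ := by
  haveI : Fact (Nat.Prime 2) := ⟨Nat.prime_two⟩
  haveI hKn : K.Normal := hK ▸ normalClosure_normal
  have hSK : S ≤ K := hK ▸ fun a ha => subset_normalClosure ha
  obtain ⟨U, hU⟩ := GateCons.exists_sylow_inter P K
  set N := normalClosure ((S.subgroupOf K : Subgroup K) : Set K) with hN
  have key : ∀ g a : G, a ∈ S → g * a * g⁻¹ ∈ N.map K.subtype := by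
    intro g a ha
    have hle : S.map (MulAut.conj g).toMonoidHom ≤ K := by
      rintro _ ⟨x, hx, rfl⟩; exact hKn.conj_mem x (hSK hx) g
    obtain ⟨k, hk, hkle⟩ := LESylow.exists_conj_le_of_le hle ((P.isPGroup'.to_le hS.1).map _) U
    obtain ⟨y, hy, e⟩ := hkle ⟨g * a * g⁻¹, ⟨a, ha, rfl⟩, rfl⟩
    have e' : (y : G) = k * (g * a * g⁻¹) * k⁻¹ := e
    rw [hU] at hy
    have hyS : (y : G) ∈ S := by
      rw [e', show k * (g * a * g⁻¹) * k⁻¹ = k * g * a * (k * g)⁻¹ by group]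
      refine hS.2 a ha _ ?_
      rw [show k * g * a * (k * g)⁻¹ = k * (g * a * g⁻¹) * k⁻¹ by group, ← e']
      exact hy
    refine ⟨(⟨k, hk⟩ : K)⁻¹ * y * ⟨k, hk⟩, ?_, ?_⟩
    · simpa using (normalClosure_normal (s := ((S.subgroupOf K : Subgroup K) : Set K))).conj_mem y
        (subset_normalClosure (mem_subgroupOf.2 hyS)) (⟨k, hk⟩ : K)⁻¹
    · show k⁻¹ * (y : G) * k = g * a * g⁻¹
      rw [e']; group
  have hle : K ≤ N.map K.subtype := by
    conv_lhs => rw [hK, normalClosure]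
    rw [closure_le]
    intro y hy
    obtain ⟨a, ha, hc⟩ := Group.mem_conjugatesOfSet_iff.1 hy
    obtain ⟨g, rfl⟩ := isConj_iff.1 hc
    exact key g a ha
  refine eq_top_iff.2 fun x _ => ?_
  obtain ⟨y, hy, e⟩ := hle x.2
  rwa [show x = y from (Subtype.ext e).symm]

/-- The case of one involution. -/
theorem inter_le_of_unique (hPair : CommPair.Stmt.{u}) (T : Sylow 2 G) (S : Subgroup G) (hS1 : S ≠ ⊥)
    (hS : Cfsg.IsStronglyClosed S (T : Subgroup G))
    (huniq : ∀ a ∈ S, ∀ b ∈ S, orderOf a = 2 → orderOf b = 2 → a = b) :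
    (T : Subgroup G) ⊓ normalClosure (S : Set G) ≤ S := by
  haveI : Fact (Nat.Prime 2) := ⟨Nat.prime_two⟩
  set O := Cfsg.oddCore G with hO
  haveI hOn : O.Normal := FittingCores.pPrimeCore_normal 2
  have hOodd : Odd (Nat.card O) := SEBrick.oddCore_odd
  by_cases hc : IsCyclic S
  · haveI := hc
    have hn : (S ⊔ O).Normal := ⟨fun a ha g => by
      have hle : S ⊔ O ≤ (S ⊔ O).comap (MulAut.conj g).toMonoidHom :=
        sup_le (fun s hs => cyclic_normal G T S hS hc g s hs) fun o ho => mem_sup_right (hOn.conj_mem o ho g)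
      exact hle ha⟩
    rintro x ⟨hxT, hxX⟩
    obtain ⟨s, hs, o, ho, rfl⟩ := mem_sup_of_normal_right.1
      (normalClosure_le_normal (le_sup_left : S ≤ S ⊔ O) hxX)
    have hoT : o ∈ (T : Subgroup G) := by
      have := mul_mem (inv_mem (hS.1 hs)) hxT
      rwa [inv_mul_cancel_left] at this
    rw [eq_one_of_mem_odd hOodd hoT ho, mul_one]
    exact hs
  obtain ⟨z, hzS, hz⟩ : ∃ z ∈ S, orderOf z = 2 := by
    obtain ⟨n, hn⟩ := (T.isPGroup'.to_le hS.1).exists_card_eq
    obtain ⟨y, hy⟩ := exists_prime_orderOf_dvd_card' (G := S) 2 (hn ▸ dvd_pow_self 2 (by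
      rintro rfl
      exact hS1 (card_eq_one.1 hn)))
    exact ⟨y, y.2, by rw [Subgroup.orderOf_coe, hy]⟩
  have hiso := isolated_of_unique hS hz hzS fun w hw hwo => huniq w hw z hzS hwo hz
  have hZ := BrauerSuzuki.zStar G _ hz hiso
  set π := QuotientGroup.mk' O with hπ
  have hsurj : Function.Surjective π := QuotientGroup.mk'_surjective O
  have hinj : ∀ a ∈ (T : Subgroup G), π a = 1 → a = 1 := fun a ha e =>
    eq_one_of_mem_odd hOodd ha ((QuotientGroup.eq_one_iff a).1 e)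
  set Tb := T.mapSurjective hsurj
  have hSb : Cfsg.IsStronglyClosed (S.map π) (Tb : Subgroup (G ⧸ O)) :=
    closed_map hS π hsurj O (by rw [hπ, QuotientGroup.ker_mk']) (by rw [hπ, QuotientGroup.ker_mk']; exact le_sup_right)
  have hzc : ∀ q : G ⧸ O, q * π z = π z * q := by
    intro q
    obtain ⟨a, rfl⟩ := hsurj q
    have h : π (a * z * a⁻¹ * z⁻¹) = 1 := (QuotientGroup.eq_one_iff _).2 (hZ a)
    rw [map_mul, map_mul, map_mul, map_inv, map_inv] at h
    exact mul_inv_eq_iff_eq_mul.1 (mul_inv_eq_one.1 h)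
  set Y := normalClosure ((S.map π : Subgroup (G ⧸ O)) : Set (G ⧸ O)) with hY
  haveI : Y.Normal := normalClosure_normal
  have hSY : S.map π ≤ Y := fun a ha => subset_normalClosure ha
  obtain ⟨R, hR⟩ := GateCons.exists_sylow_inter Tb Y
  set S' := (S.map π).subgroupOf Y with hS'
  have hS'cl : Cfsg.IsStronglyClosed S' (R : Subgroup Y) := by
    rw [hR]
    exact ⟨fun s hs => hSb.1 hs, fun s hs g hg => hSb.2 _ hs _ hg⟩
  have hzS' : (⟨π z, hSY ⟨z, hzS, rfl⟩⟩ : Y) ∈ S' := ⟨z, hzS, rfl⟩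
  have hz' : orderOf (⟨π z, hSY ⟨z, hzS, rfl⟩⟩ : Y) = 2 := by
    rw [Subgroup.orderOf_mk]
    exact Invol.order_two_of_sq (by rw [← map_mul, Invol.mul_self hz, map_one])
      fun e => Invol.ne_one hz (hinj z (hS.1 hzS) e)
  have hu' : ∀ w ∈ S', orderOf w = 2 → w = ⟨π z, hSY ⟨z, hzS, rfl⟩⟩ := by
    rintro ⟨w, hwY⟩ ⟨s, hs, hse⟩ hw2
    rw [Subgroup.orderOf_mk] at hw2
    refine Subtype.ext ?_
    show w = π z
    have hse' : π s = w := hse
    rw [← hse'] at hw2 ⊢
    have h2 : s * s = 1 := hinj _ (mul_mem (hS.1 hs) (hS.1 hs)) (by rw [map_mul, Invol.mul_self hw2])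
    rw [huniq s hs z hzS (Invol.order_two_of_sq h2 fun e => Invol.ne_one hw2 (by rw [e, map_one])) hz]
  have hnc' : ¬ IsCyclic S' := fun hcy => hc (by
    haveI := hcy
    let f : S →* S' := ((π.comp S.subtype).codRestrict Y fun s => hSY ⟨s, s.2, rfl⟩).codRestrict S'
      fun s => ⟨s, s.2, rfl⟩
    exact isCyclic_of_injective f ((injective_iff_map_eq_one f).2 fun s e =>
      Subtype.ext (hinj _ (hS.1 s.2) (congrArg (fun t : S' => ((t : Y) : G ⧸ O)) e))))
  have hzc' : ∀ g : Y, g * ⟨π z, hSY ⟨z, hzS, rfl⟩⟩ = ⟨π z, hSY ⟨z, hzS, rfl⟩⟩ * g :=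
    fun g => Subtype.ext (hzc g)
  obtain ⟨x, e, D⟩ := exists_quat hS'cl hzS' hz' hu' hzc' hnc'
  have hOY : Cfsg.oddCore Y = ⊥ := by
    refine (map_eq_bot_iff_of_injective _ Y.subtype_injective).1 (eq_bot_iff.2 ?_)
    rw [← CentralInter.oddCore_quotient G]
    exact FittingCores.pPrimeCore_map_subtype_le 2 (inferInstance : Y.Normal)
  have hfull := quat_full hPair D hzc' (ncl_subgroupOf hSb Y rfl) hOY
  rintro t ⟨htT, htX⟩
  have htY : π t ∈ Y := by
    have hle : normalClosure (S : Set G) ≤ Y.comap π := normalClosure_le_normal fun s hs => hSY ⟨s, hs, rfl⟩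
    exact hle htX
  obtain ⟨s, hs, hse⟩ := hfull (show (⟨π t, htY⟩ : Y) ∈ (R : Subgroup Y) by
    rw [hR]; exact ⟨t, htT, rfl⟩)
  have h1 : s⁻¹ * t = 1 := hinj _ (mul_mem (inv_mem (hS.1 hs)) htT) (by
    rw [map_mul, map_inv, show π s = π t from hse, inv_mul_cancel])
  rw [← inv_mul_eq_one.1 h1]
  exact hs

end Cfsg.Agent.ClosedLocal
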